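import Mathlib

set_option autoImplicit false

namespace Cfsg.Agent.Lib.Helper23

/-- Two subgroups of coprime index in a finite group have product the whole group. -/
theorem exists_mul_of_coprime_index {H : Type*} [Group H] [Finite H] (A B : Subgroup H)
    (hcop : A.index.Coprime B.index) (h : H) : ∃ β ∈ B, ∃ α ∈ A, h = β * α := by
  have e1 : A.relIndex B * B.index = (A ⊓ B).index := by
    rw [← Subgroup.inf_relIndex_right, Subgroup.relIndex_mul_index inf_le_right]
  have e2 : B.relIndex A * A.index = (A ⊓ B).index := by
    rw [← Subgroup.inf_relIndex_left, Subgroup.relIndex_mul_index inf_le_left]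
  have hdvd : A.index ∣ A.relIndex B := by
    apply Nat.Coprime.dvd_of_dvd_mul_right hcop
    rw [e1, ← e2]
    exact dvd_mul_left _ _
  have hne : A.relIndex B ≠ 0 := by
    intro h0
    have : (A.subgroupOf B).index = 0 := h0
    exact Subgroup.index_ne_zero_of_finite this
  have hle : A.index ≤ A.relIndex B := Nat.le_of_dvd (Nat.pos_of_ne_zero hne) hdvd
  let f : B ⧸ (A.subgroupOf B) → H ⧸ A :=
    Quotient.map' (fun x : B => (x : H)) (fun x y hxy => by
      rw [QuotientGroup.leftRel_apply] at hxy ⊢
      exact hxy)
  have hf : Function.Injective f := by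
    intro q₁ q₂
    induction q₁ using Quotient.inductionOn' with | _ x => ?_
    induction q₂ using Quotient.inductionOn' with | _ y => ?_
    intro hxy
    apply Quotient.sound'
    have := Quotient.exact' hxy
    rw [QuotientGroup.leftRel_apply] at this ⊢
    exact this
  have hbij : Function.Bijective f :=
    Function.Injective.bijective_of_nat_card_le hf hle
  obtain ⟨q, hq⟩ := hbij.2 (h : H ⧸ A)
  induction q using Quotient.inductionOn' with | _ x => ?_
  have := Quotient.exact' hq
  rw [QuotientGroup.leftRel_apply] at this
  exact ⟨x, x.2, _, this, by group⟩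

end Cfsg.Agent.Lib.Helper23
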