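import Mathlib

set_option autoImplicit false

/-!
The wreath product `GL_2(F) ≀ S_m` inside `SL_{2m+1}(F)`: block diagonal matrices with a
compensating last entry, and block permutation matrices.
-/

namespace Cfsg.Agent.Lib.Helper23

open Matrix

section

variable {F : Type*} [Field F] (m : ℕ)

/-- The index type `(Fin 2 × Fin m) ⊕ Unit`. -/
abbrev GwI (m : ℕ) : Type := (Fin 2 × Fin m) ⊕ Unit

/-- The product of the determinants. -/
def gwD (g : Fin m → GL (Fin 2) F) : F :=
  ∏ i, ((g i : GL (Fin 2) F) : Matrix (Fin 2) (Fin 2) F).det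

theorem gwD_mul (g h : Fin m → GL (Fin 2) F) : gwD m (g * h) = gwD m g * gwD m h := by
  simp [gwD, Finset.prod_mul_distrib]

theorem gwD_one : gwD m (1 : Fin m → GL (Fin 2) F) = 1 := by
  simp [gwD]

theorem gwD_ne_zero (g : Fin m → GL (Fin 2) F) : gwD m g ≠ 0 := by
  apply Finset.prod_ne_zero_iff.mpr
  intro i _
  exact ((Matrix.isUnit_iff_isUnit_det _).mp (Units.isUnit (g i))).ne_zero

/-- The block diagonal matrix with a compensating last entry. -/
def gwIotaMat (g : Fin m → GL (Fin 2) F) : Matrix (GwI m) (GwI m) F :=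
  Matrix.fromBlocks
    (Matrix.blockDiagonal fun i => ((g i : GL (Fin 2) F) : Matrix (Fin 2) (Fin 2) F)) 0 0
    ((gwD m g)⁻¹ • (1 : Matrix Unit Unit F))

theorem gwIotaMat_det (g : Fin m → GL (Fin 2) F) : (gwIotaMat m g).det = 1 := by
  rw [gwIotaMat, Matrix.det_fromBlocks_zero₂₁, Matrix.det_blockDiagonal]
  have h1 : ((gwD m g)⁻¹ • (1 : Matrix Unit Unit F)).det = (gwD m g)⁻¹ := by
    simp
  rw [h1]
  exact mul_inv_cancel₀ (gwD_ne_zero m g)

theorem gwIotaMat_one : gwIotaMat m (1 : Fin m → GL (Fin 2) F) = 1 := by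
  rw [gwIotaMat, gwD_one]
  have : (fun i : Fin m => (((1 : Fin m → GL (Fin 2) F) i : GL (Fin 2) F) :
      Matrix (Fin 2) (Fin 2) F)) = 1 := by
    funext i
    simp
  rw [this, Matrix.blockDiagonal_one, inv_one, one_smul, Matrix.fromBlocks_one]

theorem gwIotaMat_mul (g h : Fin m → GL (Fin 2) F) :
    gwIotaMat m (g * h) = gwIotaMat m g * gwIotaMat m h := by
  simp only [gwIotaMat, Matrix.fromBlocks_multiply, gwD_mul]
  congr 1
  · rw [← Matrix.blockDiagonal_mul]
    simp
  · simp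
  · simp
  · simp only [Matrix.zero_mul, zero_add, smul_mul_smul_comm, mul_one, mul_inv]

/-- The base group homomorphism. -/
def gwIota : (Fin m → GL (Fin 2) F) →* Matrix.SpecialLinearGroup (GwI m) F where
  toFun g := ⟨gwIotaMat m g, gwIotaMat_det m g⟩
  map_one' := Subtype.ext (gwIotaMat_one m)
  map_mul' g h := Subtype.ext (gwIotaMat_mul m g h)

/-- The permutation of the index type induced by a permutation of the blocks. -/
def gwPsi (σ : Equiv.Perm (Fin m)) : Equiv.Perm (GwI m) :=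
  Equiv.sumCongr (Equiv.prodCongrRight fun _ : Fin 2 => σ) (Equiv.refl Unit)

theorem gwPsi_inl (σ : Equiv.Perm (Fin m)) (a : Fin 2) (i : Fin m) :
    gwPsi m σ (Sum.inl (a, i)) = Sum.inl (a, σ i) := rfl

theorem gwPsi_inr (σ : Equiv.Perm (Fin m)) (u : Unit) :
    gwPsi m σ (Sum.inr u) = Sum.inr u := rfl

theorem gwPsi_mul (σ τ : Equiv.Perm (Fin m)) : gwPsi m (σ * τ) = gwPsi m σ * gwPsi m τ := by
  ext x
  rcases x with ⟨a, i⟩ | u
  · rw [Equiv.Perm.mul_apply, gwPsi_inl, gwPsi_inl, gwPsi_inl, Equiv.Perm.mul_apply]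
  · rw [Equiv.Perm.mul_apply, gwPsi_inr, gwPsi_inr, gwPsi_inr]

theorem gwPsi_one : gwPsi m (1 : Equiv.Perm (Fin m)) = 1 := by
  ext x
  rcases x with ⟨a, i⟩ | u
  · rw [gwPsi_inl]; rfl
  · rw [gwPsi_inr]; rfl

theorem gwPsi_inv (σ : Equiv.Perm (Fin m)) : gwPsi m σ⁻¹ = (gwPsi m σ)⁻¹ := by
  apply eq_inv_of_mul_eq_one_left
  rw [← gwPsi_mul, inv_mul_cancel, gwPsi_one]

theorem gwPsi_sign (σ : Equiv.Perm (Fin m)) : Equiv.Perm.sign (gwPsi m σ) = 1 := by
  rw [gwPsi, Equiv.Perm.sign_sumCongr, Equiv.Perm.sign_prodCongrRight]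
  simp

/-- The block permutation matrix. -/
def gwPiMat (σ : Equiv.Perm (Fin m)) : Matrix (GwI m) (GwI m) F :=
  (1 : Matrix (GwI m) (GwI m) F).submatrix (gwPsi m σ⁻¹) id

theorem gwPiMat_apply (σ : Equiv.Perm (Fin m)) (i j : GwI m) :
    gwPiMat (F := F) m σ i j = if gwPsi m σ⁻¹ i = j then 1 else 0 := by
  simp [gwPiMat, Matrix.one_apply]

theorem gwPiMat_det (σ : Equiv.Perm (Fin m)) : (gwPiMat (F := F) m σ).det = 1 := by
  rw [gwPiMat, Matrix.det_permute, gwPsi_sign]
  simp

theorem gwPiMat_mul_apply (σ : Equiv.Perm (Fin m)) (A : Matrix (GwI m) (GwI m) F)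
    (i j : GwI m) :
    (gwPiMat (F := F) m σ * A : Matrix (GwI m) (GwI m) F) i j = A (gwPsi m σ⁻¹ i) j := by
  simp [Matrix.mul_apply, gwPiMat_apply]

theorem gwMul_piMat_apply (σ : Equiv.Perm (Fin m)) (A : Matrix (GwI m) (GwI m) F)
    (i j : GwI m) :
    (A * gwPiMat (F := F) m σ : Matrix (GwI m) (GwI m) F) i j = A i (gwPsi m σ j) := by
  rw [Matrix.mul_apply]
  rw [Finset.sum_eq_single (gwPsi m σ j)]
  · rw [gwPiMat_apply, gwPsi_inv]
    simp
  · intro k _ hk
    rw [gwPiMat_apply, gwPsi_inv, if_neg, mul_zero]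
    intro h
    apply hk
    rw [← h]
    simp
  · intro h
    exact absurd (Finset.mem_univ _) h

/-- The top group homomorphism. -/
def gwPi : Equiv.Perm (Fin m) →* Matrix.SpecialLinearGroup (GwI m) F where
  toFun σ := ⟨gwPiMat m σ, gwPiMat_det m σ⟩
  map_one' := by
    apply Subtype.ext
    ext i j
    show gwPiMat (F := F) m 1 i j = (1 : Matrix (GwI m) (GwI m) F) i j
    rw [gwPiMat_apply, inv_one, gwPsi_one, Matrix.one_apply]
    rfl
  map_mul' σ τ := by
    apply Subtype.ext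
    ext i j
    show gwPiMat (F := F) m (σ * τ) i j =
      (gwPiMat (F := F) m σ * gwPiMat (F := F) m τ : Matrix (GwI m) (GwI m) F) i j
    rw [gwPiMat_mul_apply, gwPiMat_apply, gwPiMat_apply, _root_.mul_inv_rev, gwPsi_mul,
      Equiv.Perm.mul_apply]

theorem gwIotaMat_inl_inl (g : Fin m → GL (Fin 2) F) (a b : Fin 2) (k l : Fin m) :
    gwIotaMat m g (Sum.inl (a, k)) (Sum.inl (b, l)) =
      if k = l then ((g k : GL (Fin 2) F) : Matrix (Fin 2) (Fin 2) F) a b else 0 := by
  simp [gwIotaMat, Matrix.blockDiagonal_apply]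

theorem gwIotaMat_inr_inr (g : Fin m → GL (Fin 2) F) (u v : Unit) :
    gwIotaMat m g (Sum.inr u) (Sum.inr v) = (gwD m g)⁻¹ := by
  simp [gwIotaMat]

theorem gw_star (σ : Equiv.Perm (Fin m)) (g : Fin m → GL (Fin 2) F) :
    gwPi (F := F) m σ * gwIota m g = gwIota m (fun i => g (σ⁻¹ i)) * gwPi m σ := by
  apply Subtype.ext
  ext i j
  show (gwPiMat (F := F) m σ * gwIotaMat m g : Matrix (GwI m) (GwI m) F) i j =
    (gwIotaMat m (fun i => g (σ⁻¹ i)) * gwPiMat (F := F) m σ : Matrix (GwI m) (GwI m) F) i j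
  rw [gwPiMat_mul_apply, gwMul_piMat_apply]
  rcases i with ⟨a, k⟩ | u <;> rcases j with ⟨b, l⟩ | v
  · rw [gwPsi_inl, gwPsi_inl, gwIotaMat_inl_inl, gwIotaMat_inl_inl]
    by_cases h : k = σ l
    · subst h
      simp
    · have h' : ¬ σ⁻¹ k = l := by
        intro h2
        apply h
        rw [← h2]
        simp
      rw [if_neg h, if_neg h']
  · rw [gwPsi_inl, gwPsi_inr]
    simp [gwIotaMat]
  · rw [gwPsi_inr, gwPsi_inl]
    simp [gwIotaMat]
  · rw [gwPsi_inr, gwPsi_inr]
    have hD : gwD m (fun i => g (σ⁻¹ i)) = gwD m g := by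
      unfold gwD
      exact Equiv.prod_comp σ⁻¹ (fun i => ((g i : GL (Fin 2) F) : Matrix (Fin 2) (Fin 2) F).det)
    rw [gwIotaMat_inr_inr, gwIotaMat_inr_inr, hD]

theorem gw_injective :
    Function.Injective (fun p : (Fin m → GL (Fin 2) F) × Equiv.Perm (Fin m) =>
      gwIota (F := F) m p.1 * gwPi m p.2) := by
  rintro ⟨g, σ⟩ ⟨g', σ'⟩ h
  have hmat : (gwIotaMat m g * gwPiMat (F := F) m σ : Matrix (GwI m) (GwI m) F) =
      gwIotaMat m g' * gwPiMat (F := F) m σ' :=
    congrArg Subtype.val h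
  have key : ∀ (a b : Fin 2) (k l : Fin m),
      (if k = σ l then ((g k : GL (Fin 2) F) : Matrix (Fin 2) (Fin 2) F) a b else 0) =
      (if k = σ' l then ((g' k : GL (Fin 2) F) : Matrix (Fin 2) (Fin 2) F) a b else 0) := by
    intro a b k l
    have h1 := congrFun (congrFun hmat (Sum.inl (a, k))) (Sum.inl (b, l))
    rw [gwMul_piMat_apply, gwMul_piMat_apply, gwPsi_inl, gwPsi_inl, gwIotaMat_inl_inl,
      gwIotaMat_inl_inl] at h1
    exact h1
  have hσ : σ = σ' := by
    ext l
    by_contra hne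
    have hne' : σ l ≠ σ' l := fun h2 => hne (by rw [h2])
    have hz : ((g (σ l) : GL (Fin 2) F) : Matrix (Fin 2) (Fin 2) F) = 0 := by
      ext a b
      have := key a b (σ l) l
      rw [if_pos rfl, if_neg hne'] at this
      simpa using this
    have hu : IsUnit ((g (σ l) : GL (Fin 2) F) : Matrix (Fin 2) (Fin 2) F).det :=
      (Matrix.isUnit_iff_isUnit_det _).mp (Units.isUnit (g (σ l)))
    rw [hz, Matrix.det_zero] at hu
    exact not_isUnit_zero hu
  subst hσ
  have hg : g = g' := by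
    funext k
    apply Units.ext
    ext a b
    have := key a b k (σ⁻¹ k)
    rw [show σ (σ⁻¹ k) = k by simp, if_pos rfl, if_pos rfl] at this
    exact this
  rw [hg]

end

/-- Transport of `SL` along an equivalence of index types. -/
def gwReindex {F : Type*} [Field F] {I J : Type*} [Fintype I] [DecidableEq I] [Fintype J]
    [DecidableEq J] (e : I ≃ J) :
    Matrix.SpecialLinearGroup I F →* Matrix.SpecialLinearGroup J F where
  toFun A := ⟨Matrix.reindex e e A.1, by rw [Matrix.det_reindex_self]; exact A.2⟩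
  map_one' := by
    apply Subtype.ext
    show Matrix.reindex e e (1 : Matrix I I F) = 1
    simp
  map_mul' A B := by
    apply Subtype.ext
    show Matrix.reindex e e (A.1 * B.1) = Matrix.reindex e e A.1 * Matrix.reindex e e B.1
    simp [Matrix.reindex_apply, Matrix.submatrix_mul_equiv]

theorem gwReindex_injective {F : Type*} [Field F] {I J : Type*} [Fintype I] [DecidableEq I]
    [Fintype J] [DecidableEq J] (e : I ≃ J) : Function.Injective (gwReindex (F := F) e) := by
  intro A B h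
  apply Subtype.ext
  have h1 : Matrix.reindex e e A.1 = Matrix.reindex e e B.1 := congrArg Subtype.val h
  exact (Matrix.reindex e e).injective h1

/-- L2 of the request for S4628: `GL_2(F) ≀ S_m` inside `SL_{2m+1}(F)`. -/
theorem exists_gl2_wreath_in_sl {F : Type*} [Field F] (m : ℕ) :
    ∃ (ι : (Fin m → Matrix.GeneralLinearGroup (Fin 2) F) →*
        Matrix.SpecialLinearGroup (Fin (2 * m + 1)) F)
      (π : Equiv.Perm (Fin m) →* Matrix.SpecialLinearGroup (Fin (2 * m + 1)) F),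
      (∀ (σ : Equiv.Perm (Fin m)) (g : Fin m → Matrix.GeneralLinearGroup (Fin 2) F),
        π σ * ι g = ι (fun i => g (σ⁻¹ i)) * π σ) ∧
      Function.Injective (fun p : (Fin m → Matrix.GeneralLinearGroup (Fin 2) F) ×
        Equiv.Perm (Fin m) => ι p.1 * π p.2) := by
  have hcard : Fintype.card (GwI m) = 2 * m + 1 := by
    simp [GwI]
  let e : GwI m ≃ Fin (2 * m + 1) := Fintype.equivFinOfCardEq hcard
  refine ⟨(gwReindex (F := F) e).comp (gwIota m), (gwReindex (F := F) e).comp (gwPi m), ?_, ?_⟩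
  · intro σ g
    simp only [MonoidHom.comp_apply]
    rw [← map_mul, ← map_mul, gw_star]
  · intro p q h
    simp only [MonoidHom.comp_apply] at h
    rw [← map_mul, ← map_mul] at h
    exact gw_injective m (gwReindex_injective e h)

end Cfsg.Agent.Lib.Helper23
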