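import Mathlib
import Cfsg.Prelude.Def_CaseTheorems
import Cfsg.Prelude.Def_OddOrderLocal
import Cfsg.Agent.Lib.Helper12.CN
import Cfsg.Agent.S4419

set_option autoImplicit false
set_option linter.style.haveILetI false

/-!
Finite `2`-groups of sectional rank at most two are metacyclic (Blackburn).
-/

namespace Cfsg.Agent.Lib.Helper23

open Cfsg

universe u

theorem pRankLE_of_mulEquiv {X Y : Type*} [Group X] [Group Y] {p k : ℕ} (e : X ≃* Y)
    (h : PRankLE p k X) : PRankLE p k Y := by
  intro A hA hAp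
  have hc : IsMulCommutative ↥(A.map e.symm.toMonoidHom) := by
    refine ⟨⟨?_⟩⟩
    rintro ⟨x, a, ha, rfl⟩ ⟨y, b, hb, rfl⟩
    apply Subtype.ext
    have h2 : a * b = b * a := congrArg Subtype.val (hA.is_comm.comm ⟨a, ha⟩ ⟨b, hb⟩)
    show e.symm.toMonoidHom a * e.symm.toMonoidHom b = e.symm.toMonoidHom b * e.symm.toMonoidHom a
    rw [← map_mul, ← map_mul, h2]
  have hp' : ∀ x ∈ A.map e.symm.toMonoidHom, x ^ p = 1 := by
    rintro x ⟨a, ha, rfl⟩
    rw [← map_pow, hAp a ha, map_one]
  have h1 := h _ hc hp'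
  rwa [Subgroup.card_map_of_injective e.symm.injective] at h1

theorem pRankLE_of_sectional {S : Type*} [Group S] {p k : ℕ} (h : SectionalPRankLE p k S) :
    PRankLE p k S :=
  pRankLE_of_mulEquiv (QuotientGroup.quotientBot.trans Subgroup.topEquiv) (h ⊤ ⊥)

theorem sectionalPRankLE_of_surjective {S T : Type*} [Group S] [Group T] {p k : ℕ} (f : S →* T)
    (hf : Function.Surjective f) (h : SectionalPRankLE p k S) : SectionalPRankLE p k T := by
  intro H N hN
  have hρ : Function.Surjective (f.subgroupComap H) :=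
    f.subgroupComap_surjective_of_surjective H hf
  have hψ : Function.Surjective ((QuotientGroup.mk' N).comp (f.subgroupComap H)) :=
    (QuotientGroup.mk'_surjective N).comp hρ
  exact pRankLE_of_mulEquiv (QuotientGroup.quotientKerEquivOfSurjective _ hψ)
    (h (H.comap f) ((QuotientGroup.mk' N).comp (f.subgroupComap H)).ker)

theorem isMetacyclic_of_pair {S : Type*} [Group S] (u v : S)
    (hgen : Subgroup.closure {u, v} = ⊤) (hn : (Subgroup.zpowers u).Normal) :
    IsMetacyclic S := by
  refine ⟨Subgroup.zpowers u, hn, Subgroup.isCyclic_zpowers u, ?_⟩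
  rw [isCyclic_iff_exists_zpowers_eq_top]
  refine ⟨QuotientGroup.mk' _ v, ?_⟩
  have h3 : (Subgroup.closure {u, v}).map (QuotientGroup.mk' (Subgroup.zpowers u)) = ⊤ := by
    rw [hgen, ← MonoidHom.range_eq_map,
      MonoidHom.range_eq_top.mpr (QuotientGroup.mk'_surjective _)]
  rw [MonoidHom.map_closure, Set.image_pair] at h3
  rw [eq_top_iff, ← h3, Subgroup.closure_le]
  rintro q (rfl | rfl)
  · have h4 : QuotientGroup.mk' (Subgroup.zpowers u) u = 1 :=
      (QuotientGroup.eq_one_iff u).mpr (Subgroup.mem_zpowers u)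
    rw [SetLike.mem_coe, h4]
    exact Subgroup.one_mem _
  · exact Subgroup.mem_zpowers _

theorem mem_zpowers_of_sq_eq_one {S : Type*} [Group S] {z m : S} (hz2 : z ^ 2 = 1) :
    m ∈ Subgroup.zpowers z ↔ m = 1 ∨ m = z := by
  constructor
  · rintro ⟨k, rfl⟩
    have h1 : z ^ k = z ^ (k % ((2 : ℕ) : ℤ)) := zpow_eq_zpow_emod' k hz2
    rcases Int.emod_two_eq_zero_or_one k with h | h
    · left
      show z ^ k = 1
      rw [h1]
      simp [h]
    · right
      show z ^ k = z
      rw [h1]
      simp [h]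
  · rintro (rfl | rfl)
    · exact Subgroup.one_mem _
    · exact Subgroup.mem_zpowers _

theorem exists_pair_closure_eq_top {S : Type*} [Group S] [Finite S] (h2 : IsPGroup 2 S)
    (hr : SectionalPRankLE 2 2 S) : ∃ x y : S, Subgroup.closure {x, y} = ⊤ := by
  haveI : Fact (Nat.Prime 2) := ⟨Nat.prime_two⟩
  have hQ : PRankLE 2 2 (S ⧸ frattini S) :=
    pRankLE_of_sectional (sectionalPRankLE_of_surjective (QuotientGroup.mk' (frattini S))
      (QuotientGroup.mk'_surjective _) hr)
  have hQexp : ∀ q : S ⧸ frattini S, q ^ 2 = 1 := by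
    intro q
    obtain ⟨g, rfl⟩ := QuotientGroup.mk'_surjective _ q
    rw [← map_pow]
    exact (QuotientGroup.eq_one_iff _).mpr (Cfsg.Agent.S4419.pow_mem_frattini h2 g)
  have hQcomm : ∀ a b : S ⧸ frattini S, a * b = b * a := by
    intro a b
    have ha : a⁻¹ = a := inv_eq_of_mul_eq_one_left (by rw [← pow_two]; exact hQexp a)
    have hb : b⁻¹ = b := inv_eq_of_mul_eq_one_left (by rw [← pow_two]; exact hQexp b)
    have hab : (a * b)⁻¹ = a * b :=
      inv_eq_of_mul_eq_one_left (by rw [← pow_two]; exact hQexp (a * b))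
    calc a * b = (a * b)⁻¹ := hab.symm
      _ = b⁻¹ * a⁻¹ := mul_inv_rev a b
      _ = b * a := by rw [ha, hb]
  have hcard : Nat.card (S ⧸ frattini S) ≤ 4 := by
    have h1 := hQ ⊤ ⟨⟨fun a b => Subtype.ext (hQcomm a b)⟩⟩ (fun a _ => hQexp a)
    rw [Subgroup.card_top] at h1
    exact h1
  obtain ⟨x', y', hgen⟩ : ∃ x' y' : S ⧸ frattini S, Subgroup.closure {x', y'} = ⊤ := by
    by_cases h1 : ∃ x' : S ⧸ frattini S, x' ≠ 1
    · obtain ⟨x', hx⟩ := h1
      by_cases h3 : ∃ y' : S ⧸ frattini S, y' ∉ Subgroup.zpowers x'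
      · obtain ⟨y', hy⟩ := h3
        refine ⟨x', y', ?_⟩
        have hle : Subgroup.zpowers x' ≤ Subgroup.closure {x', y'} := by
          rw [Subgroup.zpowers_le]
          exact Subgroup.subset_closure (by simp)
        have hlt : Subgroup.zpowers x' < Subgroup.closure {x', y'} := by
          refine lt_of_le_of_ne hle ?_
          intro h
          apply hy
          rw [h]
          exact Subgroup.subset_closure (by simp)
        have h4 : 1 < Nat.card ↥(Subgroup.zpowers x') :=
          (Subgroup.one_lt_card_iff_ne_bot _).mpr (Subgroup.zpowers_ne_bot.mpr hx)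
        have h5 := Subgroup.card_dvd_of_le hle
        have h6 := Cfsg.Agent.Lib.Helper1.card_lt_of_lt hlt
        obtain ⟨c, hc⟩ := h5
        have hc2 : 2 ≤ c := by
          by_contra hcon
          have : c = 0 ∨ c = 1 := by omega
          rcases this with rfl | rfl
          · rw [mul_zero] at hc
            omega
          · rw [mul_one] at hc
            omega
        have h7 : 4 ≤ Nat.card ↥(Subgroup.closure {x', y'}) := by
          rw [hc]
          nlinarith
        have h8 := Subgroup.card_le_card_group (Subgroup.closure {x', y'})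
        exact Subgroup.eq_top_of_card_eq _ (le_antisymm h8 (hcard.trans h7))
      · push Not at h3
        refine ⟨x', 1, ?_⟩
        rw [eq_top_iff]
        intro q _
        have hq := h3 q
        have hle : Subgroup.zpowers x' ≤ Subgroup.closure {x', 1} := by
          rw [Subgroup.zpowers_le]
          exact Subgroup.subset_closure (by simp)
        exact hle hq
    · push Not at h1
      refine ⟨1, 1, ?_⟩
      rw [eq_top_iff]
      intro q _
      rw [h1 q]
      exact Subgroup.one_mem _
  obtain ⟨x, rfl⟩ := QuotientGroup.mk'_surjective _ x'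
  obtain ⟨y, rfl⟩ := QuotientGroup.mk'_surjective _ y'
  refine ⟨x, y, ?_⟩
  apply frattini_nongenerating
  have h3 : (Subgroup.closure {x, y}).map (QuotientGroup.mk' (frattini S)) = ⊤ := by
    rw [MonoidHom.map_closure, Set.image_pair]
    exact hgen
  have h4 := Subgroup.comap_map_eq (QuotientGroup.mk' (frattini S)) (Subgroup.closure {x, y})
  rw [h3, Subgroup.comap_top, QuotientGroup.ker_mk'] at h4
  exact h4.symm

/-- If `S / ⟨z⟩` is metacyclic for a central involution `z` in the commutator subgroup, then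
`S` is metacyclic or the commutator subgroup is `⟨z⟩`. -/
theorem comm_mem_or_metacyclic {S : Type*} [Group S] [Finite S] (h2 : IsPGroup 2 S)
    (z : S) (hzc : z ∈ Subgroup.center S) (hz2 : z ^ 2 = 1) (hz1 : z ≠ 1)
    (hzcomm : z ∈ commutator S) (M : Subgroup S) [hMn : M.Normal]
    (hM : M = Subgroup.zpowers z) (hq : IsMetacyclic (S ⧸ M)) :
    IsMetacyclic S ∨ ∀ x y : S, x * y * x⁻¹ * y⁻¹ ∈ M := by
  classical
  haveI : Fact (Nat.Prime 2) := ⟨Nat.prime_two⟩
  obtain ⟨N', hN'n, hN'c, hQc⟩ := hq
  haveI := hN'n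
  obtain ⟨a', ha'⟩ := (isCyclic_iff_exists_zpowers_eq_top (α := ↥N')).mp hN'c
  obtain ⟨b'', hb''⟩ := (isCyclic_iff_exists_zpowers_eq_top (α := (S ⧸ M) ⧸ N')).mp hQc
  obtain ⟨b', rfl⟩ := QuotientGroup.mk'_surjective N' b''
  obtain ⟨b, rfl⟩ := QuotientGroup.mk'_surjective M b'
  obtain ⟨a, ha⟩ := QuotientGroup.mk'_surjective M (a' : S ⧸ M)
  obtain ⟨N, hNdef⟩ : ∃ N : Subgroup S, N = N'.comap (QuotientGroup.mk' M) := ⟨_, rfl⟩
  haveI hNn : N.Normal := by
    rw [hNdef]
    infer_instance
  have hMmem : ∀ m : S, m ∈ M ↔ m = 1 ∨ m = z := by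
    intro m
    rw [hM]
    exact mem_zpowers_of_sq_eq_one hz2
  have hMcen : ∀ m ∈ M, ∀ g : S, m * g = g * m := by
    intro m hm g
    rcases (hMmem m).mp hm with rfl | rfl
    · rw [one_mul, mul_one]
    · exact (Subgroup.mem_center_iff.mp hzc g).symm
  have hMsq : ∀ m ∈ M, m * m = 1 := by
    intro m hm
    rcases (hMmem m).mp hm with rfl | rfl
    · rw [one_mul]
    · rw [← pow_two]
      exact hz2
  have hMone : ∀ m ∈ M, QuotientGroup.mk' M m = 1 := fun m hm =>
    (QuotientGroup.eq_one_iff m).mpr hm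
  have hNmem : ∀ g : S, g ∈ N ↔ ∃ j : ℕ, ∃ m ∈ M, g = a ^ j * m := by
    intro g
    rw [hNdef, Subgroup.mem_comap]
    constructor
    · intro hg
      have h1 : (⟨QuotientGroup.mk' M g, hg⟩ : ↥N') ∈ Subgroup.zpowers a' := by
        rw [ha']
        exact Subgroup.mem_top _
      obtain ⟨j, hj⟩ := (mem_powers_iff_mem_zpowers.mpr h1)
      refine ⟨j, (a ^ j)⁻¹ * g, ?_, by group⟩
      have h3 : QuotientGroup.mk' M (a ^ j) = QuotientGroup.mk' M g := by
        rw [map_pow, ha]
        have h4 : ((a' ^ j : ↥N') : S ⧸ M) = QuotientGroup.mk' M g := congrArg Subtype.val hj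
        exact h4
      have h5 : QuotientGroup.mk' M ((a ^ j)⁻¹ * g) = 1 := by
        rw [map_mul, map_inv, h3, inv_mul_cancel]
      exact (QuotientGroup.eq_one_iff _).mp h5
    · rintro ⟨j, m, hm, rfl⟩
      rw [map_mul, map_pow, ha, hMone m hm, mul_one]
      exact N'.pow_mem a'.2 j
  have hSmem : ∀ g : S, ∃ i : ℕ, ∃ n ∈ N, g = b ^ i * n := by
    intro g
    have h1 : QuotientGroup.mk' N' (QuotientGroup.mk' M g) ∈
        Subgroup.zpowers (QuotientGroup.mk' N' (QuotientGroup.mk' M b)) := by
      rw [hb'']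
      exact Subgroup.mem_top _
    obtain ⟨i, hi⟩ := (mem_powers_iff_mem_zpowers.mpr h1)
    refine ⟨i, (b ^ i)⁻¹ * g, ?_, by group⟩
    have h3 : QuotientGroup.mk' N' (QuotientGroup.mk' M (b ^ i)) =
        QuotientGroup.mk' N' (QuotientGroup.mk' M g) := by
      rw [map_pow, map_pow]
      exact hi
    have h5 : QuotientGroup.mk' N' (QuotientGroup.mk' M ((b ^ i)⁻¹ * g)) = 1 := by
      rw [map_mul, map_mul, map_inv, map_inv, h3, inv_mul_cancel]
    rw [hNdef, Subgroup.mem_comap]
    exact (QuotientGroup.eq_one_iff _).mp h5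
  have haN : a ∈ N := (hNmem a).mpr ⟨1, 1, M.one_mem, by rw [pow_one, mul_one]⟩
  have hNcomm : ∀ n ∈ N, ∀ n' ∈ N, n * n' = n' * n := by
    intro n hn n' hn'
    obtain ⟨j, m, hm, rfl⟩ := (hNmem n).mp hn
    obtain ⟨j', m', hm', rfl⟩ := (hNmem n').mp hn'
    have c1 : Commute (a ^ j) (a ^ j' * m') :=
      (Commute.pow_pow_self a j j').mul_right (hMcen m' hm' (a ^ j)).symm
    have c2 : Commute m (a ^ j' * m') := hMcen m hm _
    exact (c1.mul_left c2)
  obtain ⟨c, hcdef⟩ : ∃ c : S, c = a * b * a⁻¹ * b⁻¹ := ⟨_, rfl⟩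
  have hcN : c ∈ N := by
    have h1 : b * a⁻¹ * b⁻¹ ∈ N := hNn.conj_mem a⁻¹ (N.inv_mem haN) b
    have e : c = a * (b * a⁻¹ * b⁻¹) := by
      rw [hcdef]
      group
    rw [e]
    exact N.mul_mem haN h1
  have hpow : ∀ j : ℕ, a ^ j * b * (a ^ j)⁻¹ * b⁻¹ = c ^ j := by
    intro j
    induction j with
    | zero => simp
    | succ j ih =>
      have e : a ^ (j + 1) * b * (a ^ (j + 1))⁻¹ * b⁻¹ =
          a * (a ^ j * b * (a ^ j)⁻¹ * b⁻¹) * (b * a⁻¹ * b⁻¹) := by
        rw [pow_succ']
        group
      rw [e, ih, hNcomm a haN (c ^ j) (N.pow_mem hcN j), pow_succ, mul_assoc]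
      congr 1
      rw [hcdef]
      group
  have hnb : ∀ n ∈ N, n * b * n⁻¹ * b⁻¹ ∈ Subgroup.zpowers c := by
    intro n hn
    obtain ⟨j, m, hm, rfl⟩ := (hNmem n).mp hn
    have hmb : m * b = b * m := hMcen m hm b
    have e : a ^ j * m * b * (a ^ j * m)⁻¹ * b⁻¹ = a ^ j * b * (a ^ j)⁻¹ * b⁻¹ := by
      calc a ^ j * m * b * (a ^ j * m)⁻¹ * b⁻¹
          = a ^ j * (m * b) * m⁻¹ * (a ^ j)⁻¹ * b⁻¹ := by group
        _ = a ^ j * (b * m) * m⁻¹ * (a ^ j)⁻¹ * b⁻¹ := by rw [hmb]
        _ = a ^ j * b * (a ^ j)⁻¹ * b⁻¹ := by group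
    rw [e, hpow]
    exact Subgroup.pow_mem _ (Subgroup.mem_zpowers c) j
  have hWN : Subgroup.zpowers c ≤ N := by
    rw [Subgroup.zpowers_le]
    exact hcN
  have hbW : ∀ w ∈ Subgroup.zpowers c, b * w * b⁻¹ ∈ Subgroup.zpowers c := by
    have h1 : Subgroup.zpowers c ≤
        (Subgroup.zpowers c).comap (MulAut.conj b).toMonoidHom := by
      rw [Subgroup.zpowers_le, Subgroup.mem_comap]
      show b * c * b⁻¹ ∈ Subgroup.zpowers c
      have h3 := hnb (b * a * b⁻¹) (hNn.conj_mem a haN b)
      have e : b * a * b⁻¹ * b * (b * a * b⁻¹)⁻¹ * b⁻¹ = b * c * b⁻¹ := by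
        rw [hcdef]
        group
      rwa [e] at h3
    intro w hw
    exact h1 hw
  have hbiW : ∀ i : ℕ, ∀ w ∈ Subgroup.zpowers c,
      b ^ i * w * (b ^ i)⁻¹ ∈ Subgroup.zpowers c := by
    intro i
    induction i with
    | zero =>
      intro w hw
      simpa using hw
    | succ i ih =>
      intro w hw
      have e : b ^ (i + 1) * w * (b ^ (i + 1))⁻¹ = b * (b ^ i * w * (b ^ i)⁻¹) * b⁻¹ := by
        rw [pow_succ']
        group
      rw [e]
      exact hbW _ (ih w hw)
  have hWn : (Subgroup.zpowers c).Normal := by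
    constructor
    intro w hw g
    obtain ⟨i, n, hn, rfl⟩ := hSmem g
    have h1 : n * w * n⁻¹ = w := by
      rw [hNcomm n hn w (hWN hw), mul_inv_cancel_right]
    have e : b ^ i * n * w * (b ^ i * n)⁻¹ = b ^ i * (n * w * n⁻¹) * (b ^ i)⁻¹ := by group
    rw [e, h1]
    exact hbiW i w hw
  have hcommW : ∀ g h : S, g * h * g⁻¹ * h⁻¹ ∈ Subgroup.zpowers c := by
    haveI := hWn
    obtain ⟨π, hπdef⟩ : ∃ π : S →* S ⧸ Subgroup.zpowers c,
        π = QuotientGroup.mk' (Subgroup.zpowers c) := ⟨_, rfl⟩
    have hker : ∀ x : S, π x = 1 ↔ x ∈ Subgroup.zpowers c := by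
      intro x
      rw [hπdef]
      exact QuotientGroup.eq_one_iff x
    have hab : Commute (π a) (π b) := by
      have e : a * b = c * (b * a) := by
        rw [hcdef]
        group
      show π a * π b = π b * π a
      rw [← map_mul, ← map_mul, e, map_mul, (hker c).mpr (Subgroup.mem_zpowers c), one_mul]
    have hm : ∀ m ∈ M, ∀ q : S ⧸ Subgroup.zpowers c, Commute (π m) q := by
      intro m hm q
      obtain ⟨x, rfl⟩ : ∃ x, π x = q := by
        rw [hπdef]
        exact QuotientGroup.mk'_surjective _ q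
      show π m * π x = π x * π m
      rw [← map_mul, ← map_mul, hMcen m hm x]
    have key : ∀ g : S, ∃ i j : ℕ, ∃ m ∈ M, π g = π b ^ i * (π a ^ j * π m) := by
      intro g
      obtain ⟨i, n, hn, rfl⟩ := hSmem g
      obtain ⟨j, m, hm', rfl⟩ := (hNmem n).mp hn
      exact ⟨i, j, m, hm', by rw [map_mul, map_mul, map_pow, map_pow]⟩
    intro g h
    obtain ⟨i, j, m, hm1, hg⟩ := key g
    obtain ⟨i', j', m', hm1', hh⟩ := key h
    have hcg : Commute (π g) (π h) := by
      rw [hg, hh]
      have c1 : Commute (π b ^ i) (π b ^ i' * (π a ^ j' * π m')) :=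
        (Commute.pow_pow_self (π b) i i').mul_right
          ((hab.symm.pow_pow i j').mul_right (hm m' hm1' (π b ^ i)).symm)
      have c2 : Commute (π a ^ j) (π b ^ i' * (π a ^ j' * π m')) :=
        (hab.pow_pow j i').mul_right
          ((Commute.pow_pow_self (π a) j j').mul_right (hm m' hm1' (π a ^ j)).symm)
      have c3 : Commute (π m) (π b ^ i' * (π a ^ j' * π m')) := hm m hm1 _
      exact c1.mul_left (c2.mul_left c3)
    have h9 : π (g * h * g⁻¹ * h⁻¹) = 1 := by
      rw [map_mul, map_mul, map_mul, map_inv, map_inv, hcg.eq, mul_inv_cancel_right,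
        mul_inv_cancel]
    exact (hker _).mp h9
  have hzW : z ∈ Subgroup.zpowers c := by
    have h1 : commutator S ≤ Subgroup.zpowers c := by
      rw [commutator_def, Subgroup.commutator_le]
      intro g _ h _
      rw [commutatorElement_def]
      exact hcommW g h
    exact h1 hzcomm
  by_cases hc2 : c ^ 2 = 1
  · right
    intro x y
    rcases (mem_zpowers_of_sq_eq_one hc2).mp hzW with h1 | h1
    · exact absurd h1 hz1
    · rw [hM, h1]
      exact hcommW x y
  · left
    obtain ⟨e, he⟩ : ∃ e, orderOf c = 2 ^ e := exists_orderOf_eq_prime_pow_iff.mpr (h2 c)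
    have he2 : 2 ≤ e := by
      by_contra hcon
      apply hc2
      have h1 : orderOf c ∣ 2 := by
        rw [he]
        have h0 : e = 0 ∨ e = 1 := by omega
        rcases h0 with rfl | rfl <;> norm_num
      exact orderOf_dvd_iff_pow_eq_one.mp h1
    obtain ⟨t, ht⟩ := (mem_powers_iff_mem_zpowers.mpr hzW)
    have ht' : c ^ t = z := ht
    have h3 : orderOf c ∣ 2 * t := by
      rw [orderOf_dvd_iff_pow_eq_one, mul_comm, pow_mul, ht', hz2]
    have h4 : 2 ∣ t := by
      rw [he] at h3
      have h5 : 2 ^ 2 ∣ 2 * t := (pow_dvd_pow 2 he2).trans h3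
      have h6 : (4 : ℕ) ∣ 2 * t := by simpa using h5
      omega
    obtain ⟨t', rfl⟩ := h4
    have hzc2 : z = (c ^ 2) ^ t' := by rw [← pow_mul, ht']
    obtain ⟨j, m, hm, hcjm⟩ := (hNmem c).mp hcN
    have hc2a : c ^ 2 = a ^ (2 * j) := by
      rw [pow_two, hcjm]
      calc a ^ j * m * (a ^ j * m) = a ^ j * (m * a ^ j) * m := by group
        _ = a ^ j * (a ^ j * m) * m := by rw [hMcen m hm (a ^ j)]
        _ = a ^ j * a ^ j * (m * m) := by group
        _ = a ^ (2 * j) := by rw [hMsq m hm, mul_one, ← pow_add, two_mul]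
    have hza : z ∈ Subgroup.zpowers a := by
      rw [hzc2, hc2a, ← pow_mul]
      exact Subgroup.pow_mem _ (Subgroup.mem_zpowers a) _
    have hNeq : N = Subgroup.zpowers a := by
      apply le_antisymm
      · intro g hg
        obtain ⟨j', m', hm', rfl⟩ := (hNmem g).mp hg
        apply Subgroup.mul_mem _ (Subgroup.pow_mem _ (Subgroup.mem_zpowers a) _)
        rcases (hMmem m').mp hm' with rfl | rfl
        · exact Subgroup.one_mem _
        · exact hza
      · rw [Subgroup.zpowers_le]
        exact haN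
    have hNcyc : IsCyclic ↥N := by
      rw [hNeq]
      exact Subgroup.isCyclic_zpowers a
    refine ⟨N, hNn, hNcyc, ?_⟩
    rw [isCyclic_iff_exists_zpowers_eq_top]
    refine ⟨QuotientGroup.mk' N b, ?_⟩
    rw [eq_top_iff]
    intro q _
    obtain ⟨g, rfl⟩ := QuotientGroup.mk'_surjective N q
    obtain ⟨i, n, hn, rfl⟩ := hSmem g
    have hn1 : QuotientGroup.mk' N n = 1 := (QuotientGroup.eq_one_iff n).mpr hn
    rw [map_mul, map_pow, hn1, mul_one]
    exact Subgroup.pow_mem _ (Subgroup.mem_zpowers _) i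

/-- A `2`-generated `2`-group of rank at most two whose commutators all lie in `{1, z}` for a
central involution `z` is metacyclic. -/
theorem metacyclic_of_comm {S : Type*} [Group S] [Finite S] (h2 : IsPGroup 2 S)
    (hrk : PRankLE 2 2 S) (z : S) (hzc : z ∈ Subgroup.center S) (hz2 : z ^ 2 = 1) (hz1 : z ≠ 1)
    (hcomm : ∀ x y : S, x * y * x⁻¹ * y⁻¹ = 1 ∨ x * y * x⁻¹ * y⁻¹ = z)
    (hgen : ∃ x y : S, Subgroup.closure {x, y} = ⊤) : IsMetacyclic S := by
  classical
  haveI : Fact (Nat.Prime 2) := ⟨Nat.prime_two⟩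
  by_cases hab : ∀ x y : S, x * y = y * x
  · obtain ⟨x, y, hxy⟩ := hgen
    exact isMetacyclic_of_pair x y hxy ⟨fun n hn g => by
      rw [hab g n, mul_inv_cancel_right]
      exact hn⟩
  push Not at hab
  obtain ⟨x₀, y₀, hxy₀⟩ := hab
  have hzcen : ∀ g : S, z * g = g * z := fun g => (Subgroup.mem_center_iff.mp hzc g).symm
  have hcomm_of : ∀ x y : S, x * y * x⁻¹ * y⁻¹ = 1 → x * y = y * x := by
    intro x y h
    have h1 := mul_inv_eq_one.mp h
    calc x * y = x * y * x⁻¹ * x := by group
      _ = y * x := by rw [h1]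
  have hzcomm : z = x₀ * y₀ * x₀⁻¹ * y₀⁻¹ := by
    rcases hcomm x₀ y₀ with h | h
    · exact absurd (hcomm_of x₀ y₀ h) hxy₀
    · exact h.symm
  have hzab : Abelianization.of z = 1 := by
    rw [hzcomm, map_mul, map_mul, map_mul, map_inv, map_inv,
      mul_comm (Abelianization.of x₀) (Abelianization.of y₀), mul_inv_cancel_right,
      mul_inv_cancel]
  have hker : ∀ g : S, Abelianization.of g = 1 → g = 1 ∨ g = z := by
    intro g hg
    have h1 : g ∈ commutator S := by
      rw [← Abelianization.ker_of]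
      exact MonoidHom.mem_ker.mpr hg
    have h3 : commutator S ≤ Subgroup.zpowers z := by
      rw [commutator_def, Subgroup.commutator_le]
      intro g _ h _
      rw [commutatorElement_def, mem_zpowers_of_sq_eq_one hz2]
      exact hcomm g h
    exact (mem_zpowers_of_sq_eq_one hz2).mp (h3 h1)
  have hconj : ∀ g u : S, g * u * g⁻¹ = u ∨ g * u * g⁻¹ = z * u := by
    intro g u
    rcases hcomm g u with h | h
    · left
      exact mul_inv_eq_one.mp h
    · right
      rw [← h]
      group
  have hM1 : ∀ u v : S, Subgroup.closure {u, v} = ⊤ → z ∈ Subgroup.zpowers u →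
      IsMetacyclic S := by
    intro u v huv hzu
    apply isMetacyclic_of_pair u v huv
    constructor
    intro w hw g
    have h1 : Subgroup.zpowers u ≤ (Subgroup.zpowers u).comap (MulAut.conj g).toMonoidHom := by
      rw [Subgroup.zpowers_le, Subgroup.mem_comap]
      show g * u * g⁻¹ ∈ Subgroup.zpowers u
      rcases hconj g u with h | h
      · rw [h]
        exact Subgroup.mem_zpowers u
      · rw [h]
        exact Subgroup.mul_mem _ hzu (Subgroup.mem_zpowers u)
    exact h1 hw
  have hsqc : ∀ x y : S, x ^ 2 * y = y * x ^ 2 := by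
    intro x y
    have h1 : y * x ^ 2 * y⁻¹ = x ^ 2 := by
      have e : y * x ^ 2 * y⁻¹ = (y * x * y⁻¹) ^ 2 := by
        rw [pow_two, pow_two]
        group
      rw [e]
      rcases hconj y x with h | h
      · rw [h]
      · have hzx : Commute z x := hzcen x
        rw [h, hzx.mul_pow, hz2, one_mul]
    exact (mul_inv_eq_iff_eq_mul.mp h1).symm
  have hD5a : ∀ (u v : S) (p' q' : ℕ), Subgroup.closure {u, v} = ⊤ → orderOf u = 2 ^ p' →
      orderOf v = 2 ^ q' → 1 ≤ q' → q' ≤ p' →
      (∀ u' v' : S, Subgroup.closure {u', v'} = ⊤ →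
        orderOf u * orderOf v ≤ orderOf u' * orderOf v') →
      (v ^ 2 ^ (q' - 1) = u ^ 2 ^ (p' - 1) ∨ v ^ 2 ^ (q' - 1) = u ^ 2 ^ (p' - 1) * z) →
      IsMetacyclic S := by
    intro u v p' q' huv hp' hq' hq1 hqp hmin hrel
    obtain ⟨v', hv'def⟩ : ∃ v' : S, v' = v * (u ^ 2 ^ (p' - q'))⁻¹ := ⟨_, rfl⟩
    have hgen' : Subgroup.closure {u, v'} = ⊤ := by
      rw [eq_top_iff, ← huv, Subgroup.closure_le]
      rintro w (rfl | rfl)
      · exact Subgroup.subset_closure (by simp)
      · have e : w = v' * u ^ 2 ^ (p' - q') := by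
          rw [hv'def]
          group
        rw [SetLike.mem_coe, e]
        exact Subgroup.mul_mem _ (Subgroup.subset_closure (by simp))
          (Subgroup.pow_mem _ (Subgroup.subset_closure (by simp)) _)
    have hexp : 2 ^ (p' - q') * 2 ^ (q' - 1) = 2 ^ (p' - 1) := by
      rw [← pow_add]
      congr 1
      omega
    have hab1 : Abelianization.of (v' ^ 2 ^ (q' - 1)) = 1 := by
      have h1 : Abelianization.of (v' ^ 2 ^ (q' - 1)) =
          Abelianization.of (v ^ 2 ^ (q' - 1) * (u ^ 2 ^ (p' - 1))⁻¹) := by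
        rw [hv'def, map_pow, map_mul, map_inv, map_pow, mul_pow, inv_pow, ← pow_mul, hexp,
          map_mul, map_inv, map_pow, map_pow]
      rw [h1]
      rcases hrel with h | h
      · rw [h, mul_inv_cancel, map_one]
      · rw [h, map_mul, map_mul, hzab, mul_one, map_inv, mul_inv_cancel]
    rcases hker _ hab1 with h | h
    · exfalso
      have h1 : orderOf v' ∣ 2 ^ (q' - 1) := orderOf_dvd_of_pow_eq_one h
      have h3 : orderOf v' ≤ 2 ^ (q' - 1) := Nat.le_of_dvd (by positivity) h1
      have h4 : 2 ^ (q' - 1) < 2 ^ q' := Nat.pow_lt_pow_right (by norm_num) (by omega)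
      have h5 := hmin u v' hgen'
      rw [hq'] at h5
      have h6 : 0 < orderOf u := orderOf_pos u
      nlinarith
    · apply hM1 v' u (by rw [Set.pair_comm]; exact hgen')
      rw [← h]
      exact Subgroup.pow_mem _ (Subgroup.mem_zpowers v') _
  have hex : ∃ k : ℕ, ∃ u v : S, Subgroup.closure {u, v} = ⊤ ∧ orderOf u * orderOf v = k := by
    obtain ⟨x, y, h⟩ := hgen
    exact ⟨_, x, y, h, rfl⟩
  obtain ⟨u, v, huv, hk⟩ := Nat.find_spec hex
  have hmin : ∀ u' v' : S, Subgroup.closure {u', v'} = ⊤ →
      orderOf u * orderOf v ≤ orderOf u' * orderOf v' := by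
    intro u' v' h
    rw [hk]
    exact Nat.find_min' hex ⟨u', v', h, rfl⟩
  by_cases hzu : z ∈ Subgroup.zpowers u
  · exact hM1 u v huv hzu
  by_cases hzv : z ∈ Subgroup.zpowers v
  · exact hM1 v u (by rw [Set.pair_comm]; exact huv) hzv
  have hu1 : u ≠ 1 := by
    rintro rfl
    apply hzv
    have h1 : Subgroup.closure {(1 : S), v} ≤ Subgroup.zpowers v := by
      rw [Subgroup.closure_le]
      rintro w (rfl | rfl)
      · exact Subgroup.one_mem _
      · exact Subgroup.mem_zpowers _
    rw [huv] at h1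
    exact h1 (Subgroup.mem_top z)
  have hv1 : v ≠ 1 := by
    rintro rfl
    apply hzu
    have h1 : Subgroup.closure {u, (1 : S)} ≤ Subgroup.zpowers u := by
      rw [Subgroup.closure_le]
      rintro w (rfl | rfl)
      · exact Subgroup.mem_zpowers _
      · exact Subgroup.one_mem _
    rw [huv] at h1
    exact h1 (Subgroup.mem_top z)
  obtain ⟨p', hp'⟩ : ∃ p', orderOf u = 2 ^ p' := exists_orderOf_eq_prime_pow_iff.mpr (h2 u)
  obtain ⟨q', hq'⟩ : ∃ q', orderOf v = 2 ^ q' := exists_orderOf_eq_prime_pow_iff.mpr (h2 v)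
  have hp1 : 1 ≤ p' := by
    by_contra hcon
    have h0 : p' = 0 := by omega
    rw [h0, pow_zero, orderOf_eq_one_iff] at hp'
    exact hu1 hp'
  have hq1 : 1 ≤ q' := by
    by_contra hcon
    have h0 : q' = 0 := by omega
    rw [h0, pow_zero, orderOf_eq_one_iff] at hq'
    exact hv1 hq'
  obtain ⟨u₀, hu₀def⟩ : ∃ u₀ : S, u₀ = u ^ 2 ^ (p' - 1) := ⟨_, rfl⟩
  obtain ⟨v₀, hv₀def⟩ : ∃ v₀ : S, v₀ = v ^ 2 ^ (q' - 1) := ⟨_, rfl⟩
  have hpow2 : ∀ k : ℕ, 1 ≤ k → 2 ^ (k - 1) * 2 = 2 ^ k := by
    intro k hk
    rw [← pow_succ]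
    congr 1
    omega
  have hu₀2 : u₀ ^ 2 = 1 := by
    rw [hu₀def, ← pow_mul, hpow2 p' hp1, ← hp', pow_orderOf_eq_one]
  have hv₀2 : v₀ ^ 2 = 1 := by
    rw [hv₀def, ← pow_mul, hpow2 q' hq1, ← hq', pow_orderOf_eq_one]
  have hu₀1 : u₀ ≠ 1 := by
    rw [hu₀def]
    apply pow_ne_one_of_lt_orderOf (by positivity)
    rw [hp']
    exact Nat.pow_lt_pow_right (by norm_num) (by omega)
  have hv₀1 : v₀ ≠ 1 := by
    rw [hv₀def]
    apply pow_ne_one_of_lt_orderOf (by positivity)
    rw [hq']
    exact Nat.pow_lt_pow_right (by norm_num) (by omega)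
  have hu₀z : u₀ ≠ z := by
    intro h
    apply hzu
    rw [← h, hu₀def]
    exact Subgroup.pow_mem _ (Subgroup.mem_zpowers u) _
  have hv₀z : v₀ ≠ z := by
    intro h
    apply hzv
    rw [← h, hv₀def]
    exact Subgroup.pow_mem _ (Subgroup.mem_zpowers v) _
  by_cases hrel : v₀ = u₀ ∨ v₀ = u₀ * z
  · rcases le_total q' p' with hle | hle
    · exact hD5a u v p' q' huv hp' hq' hq1 hle hmin (by rw [← hu₀def, ← hv₀def]; exact hrel)
    · have hrel' : u₀ = v₀ ∨ u₀ = v₀ * z := by
        rcases hrel with h | h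
        · left
          exact h.symm
        · right
          rw [h, mul_assoc, ← pow_two, hz2, mul_one]
      apply hD5a v u q' p' (by rw [Set.pair_comm]; exact huv) hq' hp' hp1 hle ?_
        (by rw [← hu₀def, ← hv₀def]; exact hrel')
      intro u' v' h'
      have h9 := hmin v' u' (by rw [Set.pair_comm]; exact h')
      rw [mul_comm (orderOf v), mul_comm (orderOf u')]
      exact h9
  · push Not at hrel
    obtain ⟨hne1, hne2⟩ := hrel
    by_cases hpq : p' = 1 ∧ q' = 1
    · obtain ⟨rfl, rfl⟩ := hpq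
      have hu2 : u ^ 2 = 1 := by
        have h := hu₀2
        rw [hu₀def] at h
        simpa using h
      have hv2 : v ^ 2 = 1 := by
        have h := hv₀2
        rw [hv₀def] at h
        simpa using h
      have huvz : u * v * u⁻¹ * v⁻¹ = z := by
        rcases hcomm u v with h | h
        · exfalso
          have huv' : u * v = v * u := hcomm_of u v h
          have hcl : IsMulCommutative ↥(Subgroup.closure {u, v}) :=
            Subgroup.isMulCommutative_closure (by
              rintro a (rfl | rfl) b (rfl | rfl)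
              · rfl
              · exact huv'
              · exact huv'.symm
              · rfl)
          apply hxy₀
          have hx : x₀ ∈ Subgroup.closure {u, v} := by
            rw [huv]
            exact Subgroup.mem_top _
          have hy : y₀ ∈ Subgroup.closure {u, v} := by
            rw [huv]
            exact Subgroup.mem_top _
          exact congrArg Subtype.val (hcl.is_comm.comm ⟨x₀, hx⟩ ⟨y₀, hy⟩)
        · exact h
      have huinv : u⁻¹ = u := inv_eq_of_mul_eq_one_left (by rw [← pow_two]; exact hu2)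
      have hvinv : v⁻¹ = v := inv_eq_of_mul_eq_one_left (by rw [← pow_two]; exact hv2)
      have h1 : (u * v) ^ 2 = z := by
        rw [pow_two, ← huvz, huinv, hvinv]
        group
      apply hM1 (u * v) v ?_ (by rw [← h1]; exact Subgroup.pow_mem _ (Subgroup.mem_zpowers _) _)
      rw [eq_top_iff, ← huv, Subgroup.closure_le]
      rintro w (rfl | rfl)
      · have e : w = (w * v) * v⁻¹ := by group
        rw [SetLike.mem_coe, e]
        exact Subgroup.mul_mem _ (Subgroup.subset_closure (by simp))
          (Subgroup.inv_mem _ (Subgroup.subset_closure (by simp)))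
      · exact Subgroup.subset_closure (by simp)
    · have hcomm₀ : u₀ * v₀ = v₀ * u₀ := by
        have hpq' : 2 ≤ p' ∨ 2 ≤ q' := by omega
        rcases hpq' with h | h
        · have e : u₀ = (u ^ 2) ^ 2 ^ (p' - 2) := by
            rw [hu₀def, ← pow_mul]
            congr 1
            rw [← pow_succ']
            congr 1
            omega
          have hc : Commute (u ^ 2) v₀ := hsqc u v₀
          rw [e]
          exact (hc.pow_left _).eq
        · have e : v₀ = (v ^ 2) ^ 2 ^ (q' - 2) := by
            rw [hv₀def, ← pow_mul]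
            congr 1
            rw [← pow_succ']
            congr 1
            omega
          have hc : Commute (v ^ 2) u₀ := hsqc v u₀
          rw [e]
          exact ((hc.pow_left _).eq).symm
      have hA : IsMulCommutative ↥(Subgroup.closure {u₀, v₀, z}) :=
        Subgroup.isMulCommutative_closure (by
          rintro a (rfl | rfl | rfl) b (rfl | rfl | rfl)
          · rfl
          · exact hcomm₀
          · exact (hzcen a).symm
          · exact hcomm₀.symm
          · rfl
          · exact (hzcen a).symm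
          · exact hzcen b
          · exact hzcen b
          · rfl)
      have hAexp : ∀ a ∈ Subgroup.closure {u₀, v₀, z}, a ^ 2 = 1 := by
        intro a ha
        induction ha using Subgroup.closure_induction with
        | mem x hx =>
          rcases hx with rfl | rfl | rfl
          · exact hu₀2
          · exact hv₀2
          · exact hz2
        | one => exact one_pow 2
        | mul x y hx hy ihx ihy =>
          have hc : Commute x y := congrArg Subtype.val (hA.is_comm.comm ⟨x, hx⟩ ⟨y, hy⟩)
          rw [hc.mul_pow, ihx, ihy, one_mul]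
        | inv x hx ih => rw [inv_pow, ih, inv_one]
      have hle := hrk _ hA hAexp
      exfalso
      have hsub : ((({1, u₀, v₀, z, u₀ * z} : Finset S)) : Set S) ⊆
          (Subgroup.closure {u₀, v₀, z} : Set S) := by
        intro w hw
        simp only [Finset.coe_insert, Finset.coe_singleton, Set.mem_insert_iff,
          Set.mem_singleton_iff] at hw
        rcases hw with rfl | rfl | rfl | rfl | rfl
        · exact Subgroup.one_mem _
        · exact Subgroup.subset_closure (by simp)
        · exact Subgroup.subset_closure (by simp)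
        · exact Subgroup.subset_closure (by simp)
        · exact Subgroup.mul_mem _ (Subgroup.subset_closure (by simp))
            (Subgroup.subset_closure (by simp))
      have hzinv : z⁻¹ = z := inv_eq_of_mul_eq_one_left (by rw [← pow_two]; exact hz2)
      have hcard5 : ({1, u₀, v₀, z, u₀ * z} : Finset S).card = 5 := by
        rw [Finset.card_insert_of_notMem, Finset.card_insert_of_notMem,
          Finset.card_insert_of_notMem, Finset.card_insert_of_notMem, Finset.card_singleton]
        · rw [Finset.mem_singleton]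
          intro h
          exact hu₀1 (by
            have h' : u₀ * z = 1 * z := by rw [one_mul]; exact h.symm
            exact mul_right_cancel h')
        · rw [Finset.mem_insert, Finset.mem_singleton]
          rintro (h | h)
          · exact hv₀z h
          · exact hne2 h
        · rw [Finset.mem_insert, Finset.mem_insert, Finset.mem_singleton]
          rintro (h | h | h)
          · exact hne1 h.symm
          · exact hu₀z h
          · exact hz1 (by
              have h' : u₀ * z = u₀ * 1 := by rw [mul_one]; exact h.symm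
              exact mul_left_cancel h')
        · rw [Finset.mem_insert, Finset.mem_insert, Finset.mem_insert, Finset.mem_singleton]
          rintro (h | h | h | h)
          · exact hu₀1 h.symm
          · exact hv₀1 h.symm
          · exact hz1 h.symm
          · exact hu₀z (by
              have h' : u₀ = z⁻¹ := eq_inv_of_mul_eq_one_left h.symm
              rw [h', hzinv])
      have h5 : 5 ≤ Nat.card ↥(Subgroup.closure {u₀, v₀, z}) := by
        have h6 : Nat.card ↥((({1, u₀, v₀, z, u₀ * z} : Finset S)) : Set S) ≤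
            Nat.card ↥(Subgroup.closure {u₀, v₀, z} : Set S) :=
          Nat.card_mono (Set.toFinite _) hsub
        rw [Nat.card_coe_set_eq, Set.ncard_coe_finset, hcard5] at h6
        exact h6
      norm_num at hle
      omega

theorem metacyclic_of_sectional_aux : ∀ (n : ℕ) (S : Type u) [Group S] [Finite S],
    Nat.card S = n → IsPGroup 2 S → SectionalPRankLE 2 2 S → IsMetacyclic S := by
  intro n
  induction n using Nat.strong_induction_on with
  | _ n ih =>
    intro S _ _ hcard h2 hr
    haveI : Fact (Nat.Prime 2) := ⟨Nat.prime_two⟩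
    have hgen := exists_pair_closure_eq_top h2 hr
    by_cases hab : ∀ x y : S, x * y = y * x
    · obtain ⟨x, y, hxy⟩ := hgen
      exact isMetacyclic_of_pair x y hxy ⟨fun n hn g => by
        rw [hab g n, mul_inv_cancel_right]
        exact hn⟩
    · have hC : commutator S ≠ ⊥ := by
        intro h
        apply hab
        intro x y
        have h1 : x * y * x⁻¹ * y⁻¹ ∈ commutator S := by
          rw [commutator_def]
          have h3 := Subgroup.commutator_mem_commutator (Subgroup.mem_top x)
            (Subgroup.mem_top y)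
          rwa [commutatorElement_def] at h3
        rw [h, Subgroup.mem_bot] at h1
        have h4 := mul_inv_eq_one.mp h1
        calc x * y = x * y * x⁻¹ * x := by group
          _ = y * x := by rw [h4]
      haveI : Group.IsNilpotent S := h2.isNilpotent
      have h1 := Cfsg.Agent.Lib.Helper12.normal_inf_center_ne_bot' (commutator S) hC
      obtain ⟨w, hw1⟩ := (Subgroup.ne_bot_iff_exists_ne_one).mp h1
      have hw1' : (w : S) ≠ 1 := fun h => hw1 (Subtype.ext h)
      obtain ⟨e, he⟩ : ∃ e, orderOf (w : S) = 2 ^ e :=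
        exists_orderOf_eq_prime_pow_iff.mpr (h2 w)
      have he1 : 1 ≤ e := by
        by_contra hcon
        have h0 : e = 0 := by omega
        rw [h0, pow_zero, orderOf_eq_one_iff] at he
        exact hw1' he
      obtain ⟨z, hzdef⟩ : ∃ z : S, z = (w : S) ^ 2 ^ (e - 1) := ⟨_, rfl⟩
      have hzmem : z ∈ commutator S ⊓ Subgroup.center S := by
        rw [hzdef]
        exact Subgroup.pow_mem _ w.2 _
      have hzc : z ∈ Subgroup.center S := hzmem.2
      have hzcomm : z ∈ commutator S := hzmem.1
      have hz2 : z ^ 2 = 1 := by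
        rw [hzdef, ← pow_mul, ← pow_succ]
        have e1 : e - 1 + 1 = e := by omega
        rw [e1, ← he, pow_orderOf_eq_one]
      have hz1 : z ≠ 1 := by
        rw [hzdef]
        apply pow_ne_one_of_lt_orderOf (by positivity)
        rw [he]
        exact Nat.pow_lt_pow_right (by norm_num) (by omega)
      haveI hMn : (Subgroup.zpowers z).Normal := ⟨fun m hm g => by
        have hmc : m ∈ Subgroup.center S := (Subgroup.zpowers_le.mpr hzc) hm
        rw [Subgroup.mem_center_iff.mp hmc g, mul_inv_cancel_right]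
        exact hm⟩
      have hlt : Nat.card (S ⧸ Subgroup.zpowers z) < n := by
        rw [← hcard, Subgroup.card_eq_card_quotient_mul_card_subgroup (Subgroup.zpowers z)]
        have h3 : 1 < Nat.card ↥(Subgroup.zpowers z) :=
          (Subgroup.one_lt_card_iff_ne_bot _).mpr (Subgroup.zpowers_ne_bot.mpr hz1)
        have h4 : 0 < Nat.card (S ⧸ Subgroup.zpowers z) := Nat.card_pos
        nlinarith
      have hq := ih _ hlt (S ⧸ Subgroup.zpowers z) rfl (h2.to_quotient _)
        (sectionalPRankLE_of_surjective (QuotientGroup.mk' (Subgroup.zpowers z))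
          (QuotientGroup.mk'_surjective _) hr)
      rcases comm_mem_or_metacyclic h2 z hzc hz2 hz1 hzcomm (Subgroup.zpowers z) rfl hq
        with h | h
      · exact h
      · exact metacyclic_of_comm h2 (pRankLE_of_sectional hr) z hzc hz2 hz1
          (fun x y => (mem_zpowers_of_sq_eq_one hz2).mp (h x y)) hgen

theorem metacyclic_of_sectional {S : Type u} [Group S] [Finite S] (h2 : IsPGroup 2 S)
    (hr : SectionalPRankLE 2 2 S) : IsMetacyclic S :=
  metacyclic_of_sectional_aux (Nat.card S) S rfl h2 hr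

end Cfsg.Agent.Lib.Helper23
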