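import Mathlib
import Cfsg.Agent.Lib.Helper22.Cover1

set_option autoImplicit false

namespace Cfsg.Agent.Lib.Helper23.NilCover

/-- Membership in a conjugate Sylow subgroup. -/
theorem mem_smul_sylow {G : Type*} [Group G] {p : ℕ} (P : Sylow p G) (g y : G) :
    y ∈ ((g • P : Sylow p G) : Subgroup G) ↔ g⁻¹ * y * g ∈ (P : Subgroup G) := by
  rw [Sylow.coe_subgroup_smul, Subgroup.mem_pointwise_smul_iff_inv_smul_mem, MulAut.smul_def,
    MulAut.conj_inv_apply]

variable {G : Type*} [Group G] [Finite G]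

/-- A `p`-element normalizing a Sylow `p`-subgroup lies in it. -/
theorem mem_sylow_of_mem_normalizer {p : ℕ} [Fact p.Prime] (P : Sylow p G) (z : G)
    (hzN : z ∈ Subgroup.normalizer ((P : Subgroup G) : Set G)) (k : ℕ) (hzk : z ^ (p ^ k) = 1) :
    z ∈ (P : Subgroup G) := by
  obtain ⟨j, -, hj⟩ := (Nat.dvd_prime_pow (Fact.out : p.Prime)).1 (orderOf_dvd_of_pow_eq_one hzk)
  have hpg : IsPGroup p (Subgroup.zpowers z) :=
    IsPGroup.of_card (n := j) (by rw [Nat.card_zpowers, hj])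
  have h1 : Subgroup.zpowers z ⊓ Subgroup.normalizer ((P : Subgroup G) : Set G) =
      Subgroup.zpowers z ⊓ (P : Subgroup G) := hpg.inf_normalizer_sylow P
  have h2 : z ∈ Subgroup.zpowers z ⊓ Subgroup.normalizer ((P : Subgroup G) : Set G) :=
    ⟨Subgroup.mem_zpowers z, hzN⟩
  rw [h1] at h2
  exact h2.2

/-- If a conjugate of a Sylow subgroup centralizes it, the conjugating element normalizes. -/
theorem mem_normalizer_of_smul_le {p : ℕ} [Fact p.Prime] (P : Sylow p G) (g : G)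
    (h : ((g • P : Sylow p G) : Subgroup G) ≤ Subgroup.normalizer ((P : Subgroup G) : Set G)) :
    g ∈ Subgroup.normalizer ((P : Subgroup G) : Set G) := by
  have key : g • P = P ↔ g ∈ Subgroup.normalizer ((P : Subgroup G) : Set G) :=
    Sylow.smul_eq_iff_mem_normalizer
  rw [← key]
  have h2 : ((g • P : Sylow p G) : Subgroup G) ⊓ Subgroup.normalizer ((P : Subgroup G) : Set G)
      = ((g • P : Sylow p G) : Subgroup G) ⊓ (P : Subgroup G) :=
    (g • P : Sylow p G).isPGroup'.inf_normalizer_sylow P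
  have h3 : ((g • P : Sylow p G) : Subgroup G) ⊓ Subgroup.normalizer ((P : Subgroup G) : Set G)
      = ((g • P : Sylow p G) : Subgroup G) := inf_eq_left.mpr h
  rw [h3] at h2
  have hle : ((g • P : Sylow p G) : Subgroup G) ≤ (P : Subgroup G) := inf_eq_left.mp h2.symm
  exact Sylow.ext ((g • P : Sylow p G).is_maximal' P.isPGroup' hle).symm

/-- Transport of the generator hypothesis to a conjugate. -/
theorem conj_gen {p : ℕ} (P : Sylow p G) (g x : G)
    (hx : (∀ y ∈ (P : Subgroup G), y ∈ Subgroup.zpowers x) ∨ x ^ p ≠ 1) :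
    (∀ y ∈ ((g • P : Sylow p G) : Subgroup G), y ∈ Subgroup.zpowers (g * x * g⁻¹)) ∨
      (g * x * g⁻¹) ^ p ≠ 1 := by
  rcases hx with hx | hx
  · left
    intro y hy
    rw [mem_smul_sylow] at hy
    obtain ⟨j, hj⟩ := Subgroup.mem_zpowers_iff.mp (hx _ hy)
    rw [Subgroup.mem_zpowers_iff]
    refine ⟨j, ?_⟩
    rw [conj_zpow, hj]
    group
  · right
    intro h
    apply hx
    rw [conj_pow] at h
    have := congrArg (fun t => g⁻¹ * t * g) h
    simpa [mul_assoc] using this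

/-- In a nilpotent subgroup of a group with abelian Sylow `p`-subgroups, `p`-elements are
central. -/
theorem pelem_central {p : ℕ} [Fact p.Prime]
    (habAll : ∀ Q : Sylow p G, ∀ a ∈ (Q : Subgroup G), ∀ b ∈ (Q : Subgroup G), a * b = b * a)
    (A : Subgroup G) [Group.IsNilpotent ↥A] (y : G) (hy : y ∈ A) (k : ℕ)
    (hyk : y ^ (p ^ k) = 1) : ∀ a ∈ A, a * y = y * a := by
  classical
  obtain ⟨Q⟩ : Nonempty (Sylow p ↥A) := inferInstance
  have hQn : (Q : Subgroup ↥A).Normal := inferInstance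
  have hyQ : (⟨y, hy⟩ : ↥A) ∈ (Q : Subgroup ↥A) := by
    have hy' : (⟨y, hy⟩ : ↥A) ^ (p ^ k) = 1 := Subtype.ext (by simpa using hyk)
    obtain ⟨j, -, hj⟩ :=
      (Nat.dvd_prime_pow (Fact.out : p.Prime)).1 (orderOf_dvd_of_pow_eq_one hy')
    have hpg : IsPGroup p (Subgroup.zpowers (⟨y, hy⟩ : ↥A)) :=
      IsPGroup.of_card (n := j) (by rw [Nat.card_zpowers, hj])
    obtain ⟨Q', hQ'⟩ := hpg.exists_le_sylow
    have hQQ : Q' = Q := by
      haveI := Sylow.unique_of_normal Q hQn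
      exact Subsingleton.elim _ _
    rw [← hQQ]
    exact hQ' (Subgroup.mem_zpowers _)
  have hQab : ∀ a ∈ (Q : Subgroup ↥A), ∀ b ∈ (Q : Subgroup ↥A), a * b = b * a := by
    have hmap : IsPGroup p ((Q : Subgroup ↥A).map A.subtype) := Q.isPGroup'.map A.subtype
    obtain ⟨R, hR⟩ := hmap.exists_le_sylow
    intro a ha b hb
    have := habAll R a.1 (hR (Subgroup.mem_map_of_mem A.subtype ha)) b.1
      (hR (Subgroup.mem_map_of_mem A.subtype hb))
    exact Subtype.ext this
  have hC : Subgroup.centralizer ((Q : Subgroup ↥A) : Set ↥A) = ⊤ := by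
    rw [← Subgroup.index_eq_one]
    by_contra hne
    obtain ⟨r, hr, hrd⟩ := Nat.exists_prime_and_dvd hne
    have := Fact.mk hr
    obtain ⟨R⟩ : Nonempty (Sylow r ↥A) := inferInstance
    have hRle : (R : Subgroup ↥A) ≤ Subgroup.centralizer ((Q : Subgroup ↥A) : Set ↥A) := by
      intro b hb
      rw [Subgroup.mem_centralizer_iff]
      intro a ha
      by_cases hrp : r = p
      · subst hrp
        have hRQ : R = Q := by
          haveI := Sylow.unique_of_normal Q hQn
          exact Subsingleton.elim _ _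
        subst hRQ
        exact hQab a ha b hb
      · have hd : Disjoint (Q : Subgroup ↥A) (R : Subgroup ↥A) :=
          IsPGroup.disjoint_of_ne p r (Ne.symm hrp) _ _ Q.isPGroup' R.isPGroup'
        exact (Subgroup.commute_of_normal_of_disjoint _ _ hQn inferInstance hd a b ha hb).eq
    have h1 : (Subgroup.centralizer ((Q : Subgroup ↥A) : Set ↥A)).index ∣
        (R : Subgroup ↥A).index := Subgroup.index_dvd_of_le hRle
    exact R.not_dvd_index (hrd.trans h1)
  intro a ha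
  have h1 : (⟨a, ha⟩ : ↥A) ∈ Subgroup.centralizer ((Q : Subgroup ↥A) : Set ↥A) :=
    hC ▸ Subgroup.mem_top _
  have h2 := Subgroup.mem_centralizer_iff.mp h1 ⟨y, hy⟩ hyQ
  exact (congrArg Subtype.val h2).symm

/-- A nontrivial `p`-element lies in a unique member of a nilpotent minimal cover of a
centerless group with abelian Sylow `p`-subgroups. -/
theorem member_unique {p : ℕ} [Fact p.Prime] (hZ : Subgroup.center G = ⊥)
    (𝓐 : Finset (Subgroup G)) (hprop : ∀ A ∈ 𝓐, A ≠ ⊤) (hcov : ∀ g : G, ∃ A ∈ 𝓐, g ∈ A)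
    (hmin : ∀ 𝓑 : Finset (Subgroup G), (∀ A ∈ 𝓑, A ≠ ⊤) ∧ (∀ g : G, ∃ A ∈ 𝓑, g ∈ A) →
      𝓐.card ≤ 𝓑.card)
    (hnil : ∀ A ∈ 𝓐, Group.IsNilpotent ↥A)
    (habAll : ∀ Q : Sylow p G, ∀ a ∈ (Q : Subgroup G), ∀ b ∈ (Q : Subgroup G), a * b = b * a)
    {A B : Subgroup G} (hA : A ∈ 𝓐) (hB : B ∈ 𝓐) {y : G} (hyA : y ∈ A) (hyB : y ∈ B)
    (hy1 : y ≠ 1) (k : ℕ) (hyk : y ^ (p ^ k) = 1) : A = B := by
  by_contra hne
  have htop : A ⊔ B = ⊤ := by
    by_contra h
    exact hne (Cfsg.Agent.Lib.Helper22.Cov.minCover_unique_in 𝓐 hprop hcov hmin (A ⊔ B) h A B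
      hA hB le_sup_left le_sup_right)
  have := hnil A hA
  have := hnil B hB
  have hcA := pelem_central habAll A y hyA k hyk
  have hcB := pelem_central habAll B y hyB k hyk
  have hle : A ⊔ B ≤ Subgroup.centralizer {y} := by
    rw [sup_le_iff]
    constructor
    · intro a ha
      rw [Subgroup.mem_centralizer_iff]
      intro h hh
      rw [Set.mem_singleton_iff] at hh
      subst hh
      exact (hcA a ha).symm
    · intro a ha
      rw [Subgroup.mem_centralizer_iff]
      intro h hh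
      rw [Set.mem_singleton_iff] at hh
      subst hh
      exact (hcB a ha).symm
  have hyZ : y ∈ Subgroup.center G := by
    rw [Subgroup.mem_center_iff]
    intro g
    have hg : g ∈ A ⊔ B := htop ▸ Subgroup.mem_top g
    have h1 := hle hg
    rw [Subgroup.mem_centralizer_iff] at h1
    exact (h1 y rfl).symm
  rw [hZ, Subgroup.mem_bot] at hyZ
  exact hy1 hyZ

/-- A cyclic or non-elementary abelian Sylow subgroup lies in a member of the cover. -/
theorem sylow_le_member {p : ℕ} [Fact p.Prime] (hZ : Subgroup.center G = ⊥)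
    (𝓐 : Finset (Subgroup G)) (hprop : ∀ A ∈ 𝓐, A ≠ ⊤) (hcov : ∀ g : G, ∃ A ∈ 𝓐, g ∈ A)
    (hmin : ∀ 𝓑 : Finset (Subgroup G), (∀ A ∈ 𝓑, A ≠ ⊤) ∧ (∀ g : G, ∃ A ∈ 𝓑, g ∈ A) →
      𝓐.card ≤ 𝓑.card)
    (hnil : ∀ A ∈ 𝓐, Group.IsNilpotent ↥A)
    (habAll : ∀ Q : Sylow p G, ∀ a ∈ (Q : Subgroup G), ∀ b ∈ (Q : Subgroup G), a * b = b * a)
    (Q : Sylow p G) {x : G} (hxQ : x ∈ (Q : Subgroup G))
    (hx : (∀ y ∈ (Q : Subgroup G), y ∈ Subgroup.zpowers x) ∨ x ^ p ≠ 1)
    {A : Subgroup G} (hA : A ∈ 𝓐) (hxA : x ∈ A) : (Q : Subgroup G) ≤ A := by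
  rcases hx with hx | hx
  · intro y hy
    exact (Subgroup.zpowers_le.mpr hxA) (hx y hy)
  · have key : ∀ k : ℕ, ∀ y ∈ (Q : Subgroup G), y ^ (p ^ k) = 1 → y ∈ A := by
      intro k
      induction k with
      | zero =>
        intro y _ hy
        rw [pow_zero, pow_one] at hy
        rw [hy]
        exact A.one_mem
      | succ k ih =>
        intro y hyQ hyk
        have hyp : (y ^ p) ^ (p ^ k) = 1 := by
          rw [← pow_mul, ← pow_succ']
          exact hyk
        have hypA : y ^ p ∈ A := ih (y ^ p) (Subgroup.pow_mem _ hyQ p) hyp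
        by_cases h1 : y ^ p = 1
        · obtain ⟨B, hB, hxyB⟩ := hcov (x * y)
          have hcomm : Commute x y := habAll Q x hxQ y hyQ
          have hpow : (x * y) ^ p = x ^ p := by rw [hcomm.mul_pow, h1, mul_one]
          have hxpB : x ^ p ∈ B := hpow ▸ Subgroup.pow_mem _ hxyB p
          have hxpA : x ^ p ∈ A := Subgroup.pow_mem _ hxA p
          obtain ⟨n, hn⟩ := Q.isPGroup' ⟨x, hxQ⟩
          have hxn : x ^ (p ^ n) = 1 := by simpa using congrArg Subtype.val hn
          have hxpn : (x ^ p) ^ (p ^ n) = 1 := by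
            rw [← pow_mul, mul_comm, pow_mul, hxn, one_pow]
          have hAB : A = B :=
            member_unique hZ 𝓐 hprop hcov hmin hnil habAll hA hB hxpA hxpB hx n hxpn
          have h2 : x * y ∈ A := hAB ▸ hxyB
          have h3 := A.mul_mem (A.inv_mem hxA) h2
          simpa using h3
        · obtain ⟨B, hB, hyB⟩ := hcov y
          have hAB : A = B :=
            member_unique hZ 𝓐 hprop hcov hmin hnil habAll hA hB hypA (Subgroup.pow_mem _ hyB p)
              h1 k hyp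
          exact hAB ▸ hyB
    intro y hy
    obtain ⟨n, hn⟩ := Q.isPGroup' ⟨y, hy⟩
    exact key n y hy (by simpa using congrArg Subtype.val hn)

/-- The centralizer of an abelian Sylow subgroup contained in a member is that member. -/
theorem centralizer_eq_member {p : ℕ} [Fact p.Prime] (hZ : Subgroup.center G = ⊥)
    (𝓐 : Finset (Subgroup G)) (hprop : ∀ A ∈ 𝓐, A ≠ ⊤) (hcov : ∀ g : G, ∃ A ∈ 𝓐, g ∈ A)
    (hmin : ∀ 𝓑 : Finset (Subgroup G), (∀ A ∈ 𝓑, A ≠ ⊤) ∧ (∀ g : G, ∃ A ∈ 𝓑, g ∈ A) →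
      𝓐.card ≤ 𝓑.card)
    (hnil : ∀ A ∈ 𝓐, Group.IsNilpotent ↥A)
    (habAll : ∀ Q : Sylow p G, ∀ a ∈ (Q : Subgroup G), ∀ b ∈ (Q : Subgroup G), a * b = b * a)
    (Q : Sylow p G) {x : G} (hxQ : x ∈ (Q : Subgroup G)) (hx1 : x ≠ 1)
    {A : Subgroup G} (hA : A ∈ 𝓐) (hQA : (Q : Subgroup G) ≤ A) :
    Subgroup.centralizer ((Q : Subgroup G) : Set G) = A := by
  have := hnil A hA
  apply le_antisymm
  · intro c hc
    have hc' := Subgroup.mem_centralizer_iff.mp hc
    obtain ⟨n, hn⟩ := Q.isPGroup' ⟨x, hxQ⟩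
    have hxn : x ^ (p ^ n) = 1 := by simpa using congrArg Subtype.val hn
    by_cases hpm : p ∣ orderOf c
    · obtain ⟨B, hB, hcB⟩ := hcov c
      have hzp : (c ^ (orderOf c / p)) ^ p = 1 := by
        rw [← pow_mul, Nat.div_mul_cancel hpm, pow_orderOf_eq_one]
      have hz1 : c ^ (orderOf c / p) ≠ 1 := by
        intro h
        have hpos : 0 < orderOf c := orderOf_pos c
        have h1 := orderOf_dvd_of_pow_eq_one h
        have hlt : orderOf c / p < orderOf c := Nat.div_lt_self hpos (Fact.out : p.Prime).one_lt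
        have hpos' : 0 < orderOf c / p :=
          Nat.div_pos (Nat.le_of_dvd hpos hpm) (Fact.out : p.Prime).pos
        exact absurd (Nat.le_of_dvd hpos' h1) (not_le.mpr hlt)
      have hzQ : c ^ (orderOf c / p) ∈ (Q : Subgroup G) := by
        apply mem_sylow_of_mem_normalizer Q _ _ 1 (by rw [pow_one]; exact hzp)
        exact Subgroup.centralizer_le_normalizer _ (Subgroup.pow_mem _ hc _)
      have hAB : A = B :=
        member_unique hZ 𝓐 hprop hcov hmin hnil habAll hA hB (hQA hzQ) (Subgroup.pow_mem _ hcB _)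
          hz1 1 (by rw [pow_one]; exact hzp)
      exact hAB ▸ hcB
    · obtain ⟨B, hB, hxcB⟩ := hcov (x * c)
      have hcomm : Commute x c := hc' x hxQ
      have hpow : (x * c) ^ orderOf c = x ^ orderOf c := by
        rw [hcomm.mul_pow, pow_orderOf_eq_one, mul_one]
      have hx1' : x ^ orderOf c ≠ 1 := by
        intro h
        have h1 : orderOf x ∣ orderOf c := orderOf_dvd_of_pow_eq_one h
        have h2 : orderOf x ∣ p ^ n := orderOf_dvd_of_pow_eq_one hxn
        obtain ⟨j, -, hj⟩ := (Nat.dvd_prime_pow (Fact.out : p.Prime)).1 h2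
        rcases j with _ | j
        · rw [pow_zero, orderOf_eq_one_iff] at hj
          exact hx1 hj
        · exact hpm ((dvd_pow_self p (Nat.succ_ne_zero j)).trans (hj ▸ h1))
      have hAB : A = B :=
        member_unique hZ 𝓐 hprop hcov hmin hnil habAll hA hB (Subgroup.pow_mem _ (hQA hxQ) _)
          (hpow ▸ Subgroup.pow_mem _ hxcB _) hx1' n
          (by rw [← pow_mul, mul_comm, pow_mul, hxn, one_pow])
      have h3 : x * c ∈ A := hAB ▸ hxcB
      have h4 := A.mul_mem (A.inv_mem (hQA hxQ)) h3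
      simpa using h4
  · intro a ha
    rw [Subgroup.mem_centralizer_iff]
    intro h hh
    obtain ⟨n, hn⟩ := Q.isPGroup' ⟨h, hh⟩
    have hhn : h ^ (p ^ n) = 1 := by simpa using congrArg Subtype.val hn
    exact (pelem_central habAll A h (hQA hh) n hhn a ha).symm

/-- Every proper subgroup containing the centralizer of such a Sylow subgroup normalizes it. -/
theorem le_normalizer_of_centralizer_le {p : ℕ} [Fact p.Prime] (hZ : Subgroup.center G = ⊥)
    (𝓐 : Finset (Subgroup G)) (hprop : ∀ A ∈ 𝓐, A ≠ ⊤) (hcov : ∀ g : G, ∃ A ∈ 𝓐, g ∈ A)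
    (hmin : ∀ 𝓑 : Finset (Subgroup G), (∀ A ∈ 𝓑, A ≠ ⊤) ∧ (∀ g : G, ∃ A ∈ 𝓑, g ∈ A) →
      𝓐.card ≤ 𝓑.card)
    (hnil : ∀ A ∈ 𝓐, Group.IsNilpotent ↥A)
    (habAll : ∀ Q : Sylow p G, ∀ a ∈ (Q : Subgroup G), ∀ b ∈ (Q : Subgroup G), a * b = b * a)
    (P : Sylow p G) {x : G} (hxP : x ∈ (P : Subgroup G)) (hx1 : x ≠ 1)
    (hx : (∀ y ∈ (P : Subgroup G), y ∈ Subgroup.zpowers x) ∨ x ^ p ≠ 1)
    {M : Subgroup G} (hM : M ≠ ⊤)
    (hCM : Subgroup.centralizer ((P : Subgroup G) : Set G) ≤ M) :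
    M ≤ Subgroup.normalizer ((P : Subgroup G) : Set G) := by
  obtain ⟨A, hA, hxA⟩ := hcov x
  have hPA := sylow_le_member hZ 𝓐 hprop hcov hmin hnil habAll P hxP hx hA hxA
  have hCA := centralizer_eq_member hZ 𝓐 hprop hcov hmin hnil habAll P hxP hx1 hA hPA
  intro m hm
  have hx'P' : m * x * m⁻¹ ∈ ((m • P : Sylow p G) : Subgroup G) := by
    rw [mem_smul_sylow]
    simpa [mul_assoc] using hxP
  have hx'1 : m * x * m⁻¹ ≠ 1 := by
    intro h
    apply hx1
    have := congrArg (fun t => m⁻¹ * t * m) h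
    simpa [mul_assoc] using this
  have hx' := conj_gen P m x hx
  obtain ⟨B, hB, hx'B⟩ := hcov (m * x * m⁻¹)
  have hP'B := sylow_le_member hZ 𝓐 hprop hcov hmin hnil habAll (m • P) hx'P' hx' hB hx'B
  have hCB := centralizer_eq_member hZ 𝓐 hprop hcov hmin hnil habAll (m • P) hx'P' hx'1 hB hP'B
  have hBM : B ≤ M := by
    intro b hb
    rw [← hCB] at hb
    have hb' := Subgroup.mem_centralizer_iff.mp hb
    have h1 : m⁻¹ * b * m ∈ Subgroup.centralizer ((P : Subgroup G) : Set G) := by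
      rw [Subgroup.mem_centralizer_iff]
      intro h hh
      have hh' : h ∈ (P : Subgroup G) := hh
      have h5 : m * h * m⁻¹ ∈ ((m • P : Sylow p G) : Subgroup G) := by
        rw [mem_smul_sylow]
        have h6 : m⁻¹ * (m * h * m⁻¹) * m = h := by group
        rw [h6]
        exact hh'
      have h2 := hb' (m * h * m⁻¹) h5
      calc h * (m⁻¹ * b * m) = m⁻¹ * (m * h * m⁻¹ * b) * m := by group
        _ = m⁻¹ * (b * (m * h * m⁻¹)) * m := by rw [h2]
        _ = m⁻¹ * b * m * h := by group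
    have h3 := hCM h1
    have h4 := M.mul_mem (M.mul_mem hm h3) (M.inv_mem hm)
    simpa [mul_assoc] using h4
  have hAM : A ≤ M := hCA ▸ hCM
  have hAB : A = B :=
    Cfsg.Agent.Lib.Helper22.Cov.minCover_unique_in 𝓐 hprop hcov hmin M hM A B hA hB hAM hBM
  apply mem_normalizer_of_smul_le P m
  intro y hy
  have h1 : y ∈ A := hAB ▸ hP'B hy
  rw [← hCA] at h1
  exact Subgroup.centralizer_le_normalizer _ h1

end Cfsg.Agent.Lib.Helper23.NilCover
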