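import Mathlib
import Cfsg.Prelude.Def_HallClasses
import Cfsg.Agent.Lib.Helper21.Basic
import Cfsg.Agent.S3820

set_option autoImplicit false

namespace Cfsg.Agent.Lib.Helper23.Pron

open Cfsg.Agent.Lib.Helper21

section basic

variable {G : Type*} [Group G]

theorem map_conj_map {H : Type*} [Group H] (f : G →* H) (K : Subgroup G) (g : G) :
    (K.map (MulAut.conj g).toMonoidHom).map f =
      (K.map f).map (MulAut.conj (f g)).toMonoidHom := by
  rw [Subgroup.map_map, Subgroup.map_map]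
  congr 1
  ext t
  simp [MulAut.conj_apply]

theorem map_conj_normal (A : Subgroup G) [hA : A.Normal] (g : G) :
    A.map (MulAut.conj g).toMonoidHom = A := by
  ext x
  rw [mem_map_conj]
  constructor
  · intro h
    have := hA.conj_mem _ h g
    simpa [mul_assoc] using this
  · intro h
    have := hA.conj_mem _ h g⁻¹
    simpa [mul_assoc] using this

theorem map_conj_le_of_mem' {K A : Subgroup G} (hKA : K ≤ A) {a : G} (ha : a ∈ A) :
    K.map (MulAut.conj a).toMonoidHom ≤ A := by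
  rintro _ ⟨k, hk, rfl⟩
  show a * k * a⁻¹ ∈ A
  exact A.mul_mem (A.mul_mem ha (hKA hk)) (A.inv_mem ha)

theorem pron_conj {K : Subgroup G} (hK : Cfsg.IsPronormal K) (u : G) :
    Cfsg.IsPronormal (K.map (MulAut.conj u).toMonoidHom) := by
  intro g
  obtain ⟨x, hx, hEq⟩ := hK (u⁻¹ * g * u)
  refine ⟨u * x * u⁻¹, ?_, ?_⟩
  · have h1 : u * x * u⁻¹ ∈ (K ⊔ K.map (MulAut.conj (u⁻¹ * g * u)).toMonoidHom).map
        (MulAut.conj u).toMonoidHom := conj_mem_map_conj _ u hx
    rw [Subgroup.map_sup, ← map_conj_mul] at h1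
    have e : u * (u⁻¹ * g * u) = g * u := by group
    rw [e, map_conj_mul] at h1
    exact h1
  · rw [← map_conj_mul, ← map_conj_mul]
    have e1 : g * u = u * (u⁻¹ * g * u) := by group
    have e2 : u * x * u⁻¹ * u = u * x := by group
    rw [e1, e2, map_conj_mul, hEq, ← map_conj_mul]

theorem pron_map {H : Type*} [Group H] {f : G →* H} (hf : Function.Surjective f)
    {K : Subgroup G} (hK : Cfsg.IsPronormal K) : Cfsg.IsPronormal (K.map f) := by
  intro h
  obtain ⟨g, rfl⟩ := hf h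
  obtain ⟨x, hx, hEq⟩ := hK g
  refine ⟨f x, ?_, ?_⟩
  · rw [← map_conj_map, ← Subgroup.map_sup]
    exact Subgroup.mem_map_of_mem f hx
  · rw [← map_conj_map, ← map_conj_map, hEq]

theorem pron_of_map {H : Type*} [Group H] {f : G →* H} {K : Subgroup G} (hker : f.ker ≤ K)
    (hK : Cfsg.IsPronormal (K.map f)) : Cfsg.IsPronormal K := by
  intro g
  obtain ⟨y, hy, hEq⟩ := hK (f g)
  rw [← map_conj_map, ← Subgroup.map_sup] at hy
  obtain ⟨x, hx, rfl⟩ := hy
  refine ⟨x, hx, ?_⟩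
  rw [← map_conj_map, ← map_conj_map, Subgroup.map_eq_map_iff] at hEq
  have hk : ∀ u : G, f.ker ≤ K.map (MulAut.conj u).toMonoidHom := by
    intro u t ht
    rw [mem_map_conj]
    apply hker
    have := (MonoidHom.normal_ker f).conj_mem t ht u⁻¹
    simpa using this
  rwa [sup_eq_left.mpr (hk g), sup_eq_left.mpr (hk x)] at hEq

theorem pron_subgroupOf {K N : Subgroup G} (hKN : K ≤ N) (hK : Cfsg.IsPronormal K) :
    Cfsg.IsPronormal (K.subgroupOf N) := by
  intro n
  obtain ⟨x, hx, hEq⟩ := hK (n : G)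
  have hKn : K.map (MulAut.conj (n : G)).toMonoidHom ≤ N := map_conj_le_of_mem' hKN n.2
  have hxN : x ∈ N := (sup_le hKN hKn) hx
  have hmap : (K.subgroupOf N).map N.subtype = K := Subgroup.map_subgroupOf_eq_of_le hKN
  refine ⟨⟨x, hxN⟩, ?_, ?_⟩
  · have h1 : (K.subgroupOf N ⊔ (K.subgroupOf N).map (MulAut.conj n).toMonoidHom).map N.subtype
        = K ⊔ K.map (MulAut.conj (n : G)).toMonoidHom := by
      rw [Subgroup.map_sup, map_conj_map, hmap]
      rfl
    rw [← h1] at hx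
    obtain ⟨y, hy, hyx⟩ := hx
    have e : y = ⟨x, hxN⟩ := Subtype.ext hyx
    rw [← e]; exact hy
  · apply Subgroup.map_injective N.subtype_injective
    rw [map_conj_map, map_conj_map, hmap]
    exact hEq

theorem pron_of_subgroup {N : Subgroup G} {K' : Subgroup N} (hK : Cfsg.IsPronormal K') (n : N) :
    ∃ x ∈ K'.map N.subtype ⊔ (K'.map N.subtype).map (MulAut.conj (n : G)).toMonoidHom,
      (K'.map N.subtype).map (MulAut.conj (n : G)).toMonoidHom =
        (K'.map N.subtype).map (MulAut.conj x).toMonoidHom := by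
  obtain ⟨x, hx, hEq⟩ := hK n
  refine ⟨(x : G), ?_, ?_⟩
  · have h1 := map_conj_map N.subtype K' n
    have h2 : (x : G) ∈ (K' ⊔ K'.map (MulAut.conj n).toMonoidHom).map N.subtype :=
      Subgroup.mem_map_of_mem N.subtype hx
    rw [Subgroup.map_sup, h1] at h2
    exact h2
  · have h1 := map_conj_map N.subtype K' n
    have h2 := map_conj_map N.subtype K' x
    rw [hEq] at h1
    exact h1.symm.trans h2

end basic

section fin

variable {G : Type*} [Group G] [Finite G] {p : ℕ} [Fact p.Prime]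

theorem pron_of_index {S : Subgroup G} (hS : IsPGroup p S) (hidx : ¬ p ∣ S.index) :
    Cfsg.IsPronormal S := by
  intro g
  obtain ⟨h, hh, hEq⟩ := exists_conj_eq_of_relIndex
    (H := S ⊔ S.map (MulAut.conj g).toMonoidHom) le_sup_left le_sup_right hS
    (isPGroup_map_conj hS g)
    (fun hd => hidx (hd.trans (Subgroup.relIndex_dvd_index_of_le le_sup_left)))
    (card_map_conj S g).ge
  exact ⟨h, hh, hEq⟩

theorem exists_sylow_between {T K : Subgroup G} (hT : IsPGroup p T) (hTK : T ≤ K)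
    (h : ¬ p ∣ K.index) :
    ∃ S : Subgroup G, IsPGroup p S ∧ ¬ p ∣ S.index ∧ T ≤ S ∧ S ≤ K := by
  obtain ⟨Q, hQ⟩ := (hT.comap_subtype (K := K)).exists_le_sylow
  refine ⟨(Q : Subgroup K).map K.subtype, Q.2.map K.subtype, ?_, ?_, Subgroup.map_subtype_le _⟩
  · rw [Subgroup.index_map_subtype]
    intro hd
    rcases (Nat.Prime.dvd_mul (Fact.out)).mp hd with h1 | h1
    · exact Q.not_dvd_index h1
    · exact h h1
  · intro t ht
    exact ⟨⟨t, hTK ht⟩, hQ (by simpa [Subgroup.mem_subgroupOf] using ht), rfl⟩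

theorem exists_sylow_le_iff (K : Subgroup G) :
    (∃ P : Sylow p G, (P : Subgroup G) ≤ K) ↔ ¬ p ∣ K.index := by
  constructor
  · rintro ⟨P, hP⟩ hd
    exact P.not_dvd_index (hd.trans (Subgroup.index_dvd_of_le hP))
  · intro h
    obtain ⟨S, hSp, hSi, -, hSK⟩ := exists_sylow_between (T := ⊥) (IsPGroup.of_bot) bot_le h
    refine ⟨hSp.toSylow hSi, ?_⟩
    rw [IsPGroup.toSylow_coe]
    exact hSK

theorem sylow_inf_eq (A : Subgroup G) {T S : Subgroup G} (hTA : T ≤ A)
    (hTidx : ¬ p ∣ T.relIndex A) (hSp : IsPGroup p S) (hTS : T ≤ S) : S ⊓ A = T := by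
  have hTX : T ≤ S ⊓ A := le_inf hTS hTA
  have hX : IsPGroup p (S ⊓ A : Subgroup G) := hSp.to_le inf_le_left
  obtain ⟨n, hn⟩ := IsPGroup.iff_card.mp hX
  have h1 := card_mul_relIndex hTX
  have h2 : T.relIndex (S ⊓ A) ∣ p ^ n := hn ▸ Dvd.intro_left _ h1
  obtain ⟨j, -, hjeq⟩ := (Nat.dvd_prime_pow Fact.out).mp h2
  have hj : j = 0 := by
    by_contra hj
    apply hTidx
    rw [← Subgroup.relIndex_mul_relIndex T (S ⊓ A) A hTX inf_le_right, hjeq]
    exact Dvd.dvd.mul_right (dvd_pow_self p hj) _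
  rw [hj, pow_zero] at hjeq
  rw [hjeq, mul_one] at h1
  exact (Subgroup.eq_of_le_of_card_ge hTX h1.ge).symm

theorem normalizer_le_of_sylow (A : Subgroup G) [A.Normal] {T S : Subgroup G} (hTA : T ≤ A)
    (hTidx : ¬ p ∣ T.relIndex A) (hSp : IsPGroup p S) (hTS : T ≤ S) :
    Subgroup.normalizer (S : Set G) ≤ Subgroup.normalizer (T : Set G) := by
  intro g hg
  have hSA := sylow_inf_eq A hTA hTidx hSp hTS
  rw [mem_normalizer_iff_map] at hg ⊢
  rw [← hSA, Subgroup.map_inf _ _ _ (MulAut.conj g).injective, hg, map_conj_normal]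


/-- Core step: conjugation by an element of the normal subgroup `A`. -/
theorem coreA (A : Subgroup G) [A.Normal] (T : Subgroup G) (hTp : IsPGroup p T) (hTA : T ≤ A)
    (hTidx : ¬ p ∣ T.relIndex A)
    (hA : ∀ D : Subgroup G, T ≤ D → D ≤ A → ∀ a ∈ A,
      ∃ b ∈ D ⊔ D.map (MulAut.conj a).toMonoidHom,
        D.map (MulAut.conj a).toMonoidHom = D.map (MulAut.conj b).toMonoidHom)
    (hN : ∀ L : Subgroup G, T ≤ L → L ≤ Subgroup.normalizer (T : Set G) → ¬ p ∣ L.index →
      ∀ c ∈ Subgroup.normalizer (T : Set G), ∃ x ∈ L ⊔ L.map (MulAut.conj c).toMonoidHom,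
        L.map (MulAut.conj c).toMonoidHom = L.map (MulAut.conj x).toMonoidHom)
    (K : Subgroup G) (hK : ¬ p ∣ K.index) (hTK : T ≤ K) (a : G) (ha : a ∈ A) :
    ∃ w ∈ K ⊔ K.map (MulAut.conj a).toMonoidHom,
      K.map (MulAut.conj a).toMonoidHom = K.map (MulAut.conj w).toMonoidHom := by
  obtain ⟨D, hDdef⟩ : ∃ D : Subgroup G, D = K ⊓ A := ⟨_, rfl⟩
  have hDK : D ≤ K := hDdef ▸ inf_le_left
  have hDA : D ≤ A := hDdef ▸ inf_le_right
  have hTD : T ≤ D := hDdef ▸ le_inf hTK hTA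
  obtain ⟨b, hb, hbEq⟩ := hA D hTD hDA a ha
  have hba : D.map (MulAut.conj (b⁻¹ * a)).toMonoidHom = D := by
    rw [map_conj_mul, hbEq, map_conj_map_conj_inv]
  have hT' : T.map (MulAut.conj (b⁻¹ * a)).toMonoidHom ≤ D :=
    (map_conj_mono hTD _).trans hba.le
  have hidxD : ¬ p ∣ T.relIndex D := fun hd => hTidx (by
    rw [← Subgroup.relIndex_mul_relIndex T D A hTD hDA]
    exact Dvd.dvd.mul_right hd _)
  obtain ⟨d, hd, hdEq⟩ := exists_conj_eq_of_relIndex hTD hT' hTp (isPGroup_map_conj hTp _)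
    hidxD (card_map_conj T _).ge
  obtain ⟨c, hcdef⟩ : ∃ c : G, c = d⁻¹ * (b⁻¹ * a) := ⟨_, rfl⟩
  have hcT : T.map (MulAut.conj c).toMonoidHom = T := by
    rw [hcdef, map_conj_mul, hdEq, map_conj_map_conj_inv]
  have hcD : D.map (MulAut.conj c).toMonoidHom = D := by
    rw [hcdef, map_conj_mul, hba, map_conj_of_mem (D.inv_mem hd)]
  have hcN : c ∈ Subgroup.normalizer (T : Set G) := (mem_normalizer_iff_map T c).mpr hcT
  obtain ⟨S, hSp, hSi, hTS, hSK⟩ := exists_sylow_between hTp hTK hK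
  have hSN : S ≤ Subgroup.normalizer (T : Set G) :=
    Subgroup.le_normalizer.trans (normalizer_le_of_sylow A hTA hTidx hSp hTS)
  obtain ⟨L, hLdef⟩ : ∃ L : Subgroup G, L = K ⊓ Subgroup.normalizer (T : Set G) := ⟨_, rfl⟩
  have hLK : L ≤ K := hLdef ▸ inf_le_left
  have hLN : L ≤ Subgroup.normalizer (T : Set G) := hLdef ▸ inf_le_right
  have hTL : T ≤ L := hLdef ▸ le_inf hTK Subgroup.le_normalizer
  have hSL : S ≤ L := hLdef ▸ le_inf hSK hSN
  have hLi : ¬ p ∣ L.index := fun hd => hSi (hd.trans (Subgroup.index_dvd_of_le hSL))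
  obtain ⟨x, hx, hxEq⟩ := hN L hTL hLN hLi c hcN
  have hKD : ∀ k ∈ K, D.map (MulAut.conj k).toMonoidHom = D := by
    intro k hk
    rw [hDdef, Subgroup.map_inf _ _ _ (MulAut.conj k).injective, map_conj_of_mem hk,
      map_conj_normal]
  have hLND : L ≤ Subgroup.normalizer (D : Set G) := fun l hl =>
    (mem_normalizer_iff_map D l).mpr (hKD l (hLK hl))
  have hxD : D.map (MulAut.conj x).toMonoidHom = D := by
    have hle : L ⊔ L.map (MulAut.conj c).toMonoidHom ≤ Subgroup.normalizer (D : Set G) :=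
      sup_le hLND (map_conj_le_of_mem' hLND ((mem_normalizer_iff_map D c).mpr hcD))
    exact (mem_normalizer_iff_map D x).mp (hle hx)
  have hKDL : K = D ⊔ L := by
    apply le_antisymm
    · intro k hk
      have h1 : T.map (MulAut.conj k).toMonoidHom ≤ D := by
        have := map_conj_mono hTD k
        rwa [hKD k hk] at this
      obtain ⟨e, he, heEq⟩ := exists_conj_eq_of_relIndex hTD h1 hTp (isPGroup_map_conj hTp k)
        hidxD (card_map_conj T k).ge
      have h2 : e⁻¹ * k ∈ L := by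
        rw [hLdef]
        have h4 : e⁻¹ * k ∈ Subgroup.normalizer (T : Set G) := by
          rw [mem_normalizer_iff_map, map_conj_mul, heEq, map_conj_map_conj_inv]
        exact ⟨K.mul_mem (K.inv_mem (hDK he)) hk, h4⟩
      have h3 : k = e * (e⁻¹ * k) := by group
      rw [h3]
      exact Subgroup.mul_mem _ (Subgroup.mem_sup_left he) (Subgroup.mem_sup_right h2)
    · exact sup_le hDK hLK
  have hxK : K.map (MulAut.conj x).toMonoidHom = K.map (MulAut.conj c).toMonoidHom := by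
    have e1 : K.map (MulAut.conj x).toMonoidHom =
        D.map (MulAut.conj x).toMonoidHom ⊔ L.map (MulAut.conj x).toMonoidHom := by
      rw [← Subgroup.map_sup, ← hKDL]
    have e2 : K.map (MulAut.conj c).toMonoidHom =
        D.map (MulAut.conj c).toMonoidHom ⊔ L.map (MulAut.conj c).toMonoidHom := by
      rw [← Subgroup.map_sup, ← hKDL]
    rw [e1, e2, hxD, hcD, hxEq]
  have hbJ : b ∈ K ⊔ K.map (MulAut.conj a).toMonoidHom :=
    (sup_le_sup hDK (map_conj_mono hDK a)) hb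
  have hdJ : d ∈ K ⊔ K.map (MulAut.conj a).toMonoidHom := Subgroup.mem_sup_left (hDK hd)
  have hcK : K.map (MulAut.conj c).toMonoidHom ≤ K ⊔ K.map (MulAut.conj a).toMonoidHom := by
    have e : c = (d⁻¹ * b⁻¹) * a := by rw [hcdef]; group
    rw [e, map_conj_mul]
    exact map_conj_le_of_mem' le_sup_right
      (Subgroup.mul_mem _ (Subgroup.inv_mem _ hdJ) (Subgroup.inv_mem _ hbJ))
  have hxJ : x ∈ K ⊔ K.map (MulAut.conj a).toMonoidHom :=
    (sup_le (hLK.trans le_sup_left) ((map_conj_mono hLK c).trans hcK)) hx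
  refine ⟨b * d * x, Subgroup.mul_mem _ (Subgroup.mul_mem _ hbJ hdJ) hxJ, ?_⟩
  rw [map_conj_mul K (b * d) x, hxK, ← map_conj_mul]
  have e : b * d * c = a := by rw [hcdef]; group
  rw [e]

end fin

end Cfsg.Agent.Lib.Helper23.Pron
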