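import Mathlib

set_option autoImplicit false

/-!
A nonabelian 2-subgroup (a quaternion group of order 8) of `Sp_2(F)` for a finite field `F`
of odd order.
-/

namespace Cfsg.Agent.Lib.Helper23

open scoped commutatorElement

section mats

variable {F : Type*} [Field F]

/-- The matrix over `Fin 1 ⊕ Fin 1` with entries `a b ; c d`. -/
def sq2Mat (a b c d : F) : Matrix (Fin 1 ⊕ Fin 1) (Fin 1 ⊕ Fin 1) F :=
  Matrix.fromBlocks (a • (1 : Matrix (Fin 1) (Fin 1) F)) (b • (1 : Matrix (Fin 1) (Fin 1) F))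
    (c • (1 : Matrix (Fin 1) (Fin 1) F)) (d • (1 : Matrix (Fin 1) (Fin 1) F))

theorem sq2Mat_congr {a b c d a' b' c' d' : F} (h1 : a = a') (h2 : b = b') (h3 : c = c')
    (h4 : d = d') : sq2Mat a b c d = sq2Mat a' b' c' d' := by
  rw [h1, h2, h3, h4]

theorem sq2Mat_mul (a b c d a' b' c' d' : F) :
    sq2Mat a b c d * sq2Mat a' b' c' d' =
      sq2Mat (a * a' + b * c') (a * b' + b * d') (c * a' + d * c') (c * b' + d * d') := by
  simp only [sq2Mat, Matrix.fromBlocks_multiply, smul_mul_smul_comm, mul_one, add_smul]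

theorem sq2Mat_transpose (a b c d : F) : (sq2Mat a b c d).transpose = sq2Mat a c b d := by
  simp [sq2Mat, Matrix.fromBlocks_transpose]

theorem sq2Mat_J : Matrix.J (Fin 1) F = sq2Mat 0 (-1) 1 0 := by
  simp [sq2Mat, Matrix.J]

theorem sq2Mat_one : (1 : Matrix (Fin 1 ⊕ Fin 1) (Fin 1 ⊕ Fin 1) F) = sq2Mat 1 0 0 1 := by
  simp [sq2Mat, Matrix.fromBlocks_one]

theorem sq2Mat_inj {a b c d a' b' c' d' : F} (h : sq2Mat a b c d = sq2Mat a' b' c' d') :
    a = a' ∧ b = b' ∧ c = c' ∧ d = d' := by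
  have h11 := congrFun (congrFun h (Sum.inl 0)) (Sum.inl 0)
  have h12 := congrFun (congrFun h (Sum.inl 0)) (Sum.inr 0)
  have h21 := congrFun (congrFun h (Sum.inr 0)) (Sum.inl 0)
  have h22 := congrFun (congrFun h (Sum.inr 0)) (Sum.inr 0)
  simp [sq2Mat] at h11 h12 h21 h22
  exact ⟨h11, h12, h21, h22⟩

theorem sq2Mat_mem (a b c d : F) (h : a * d - b * c = 1) :
    sq2Mat a b c d ∈ Matrix.symplecticGroup (Fin 1) F := by
  rw [SymplecticGroup.mem_iff, sq2Mat_J, sq2Mat_transpose, sq2Mat_mul, sq2Mat_mul]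
  apply sq2Mat_congr
  · ring
  · linear_combination (-1 : F) * h
  · linear_combination h
  · ring

/-- "Rotation" matrices. -/
def sq2Rot (x y : F) : Matrix (Fin 1 ⊕ Fin 1) (Fin 1 ⊕ Fin 1) F := sq2Mat x (-y) y x

/-- The "reflection-like" matrix. -/
def sq2Ref (a b : F) : Matrix (Fin 1 ⊕ Fin 1) (Fin 1 ⊕ Fin 1) F := sq2Mat a b b (-a)

theorem sq2Rot_congr {x y x' y' : F} (h1 : x = x') (h2 : y = y') : sq2Rot x y = sq2Rot x' y' := by
  rw [h1, h2]

theorem sq2Rot_mul (x y x' y' : F) :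
    sq2Rot x y * sq2Rot x' y' = sq2Rot (x * x' - y * y') (x * y' + y * x') := by
  simp only [sq2Rot, sq2Mat_mul]
  apply sq2Mat_congr <;> ring

theorem sq2Rot_one : (1 : Matrix (Fin 1 ⊕ Fin 1) (Fin 1 ⊕ Fin 1) F) = sq2Rot 1 0 := by
  rw [sq2Mat_one, sq2Rot]
  apply sq2Mat_congr <;> ring

theorem sq2Rot_ref (x y a b : F) : sq2Rot x y * sq2Ref a b = sq2Ref a b * sq2Rot x (-y) := by
  simp only [sq2Rot, sq2Ref, sq2Mat_mul]
  apply sq2Mat_congr <;> ring

theorem sq2Ref_sq (a b : F) (hab : a ^ 2 + b ^ 2 = -1) :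
    sq2Ref a b * sq2Ref a b = sq2Rot (-1) 0 := by
  simp only [sq2Rot, sq2Ref, sq2Mat_mul]
  apply sq2Mat_congr
  · linear_combination hab
  · ring
  · ring
  · linear_combination hab

theorem sq2Rot_ref_assoc (x y a b : F) (M : Matrix (Fin 1 ⊕ Fin 1) (Fin 1 ⊕ Fin 1) F) :
    sq2Rot x y * (sq2Ref a b * M) = sq2Ref a b * (sq2Rot x (-y) * M) := by
  rw [← mul_assoc, sq2Rot_ref, mul_assoc]

theorem sq2Ref_sq_assoc (a b : F) (hab : a ^ 2 + b ^ 2 = -1)
    (M : Matrix (Fin 1 ⊕ Fin 1) (Fin 1 ⊕ Fin 1) F) :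
    sq2Ref a b * (sq2Ref a b * M) = sq2Rot (-1) 0 * M := by
  rw [← mul_assoc, sq2Ref_sq a b hab]

/-- The unit condition: `(x, y)` is one of `(±1, 0)`, `(0, ±1)`. -/
def sq2U (x y : F) : Prop := x ^ 2 + y ^ 2 = 1 ∧ x * y = 0

theorem sq2U_mul {x y x' y' : F} (h : sq2U x y) (h' : sq2U x' y') :
    sq2U (x * x' - y * y') (x * y' + y * x') := by
  obtain ⟨h1, h2⟩ := h
  obtain ⟨h1', h2'⟩ := h'
  constructor
  · linear_combination (x' ^ 2 + y' ^ 2) * h1 + h1'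
  · linear_combination (x ^ 2 - y ^ 2) * h2' + (x' ^ 2 - y' ^ 2) * h2

theorem sq2U_neg {x y : F} (h : sq2U x y) : sq2U x (-y) := by
  obtain ⟨h1, h2⟩ := h
  exact ⟨by linear_combination h1, by linear_combination (-1 : F) * h2⟩

theorem sq2U_one : sq2U (1 : F) 0 := ⟨by ring, by ring⟩

theorem sq2U_neg_one : sq2U (-1 : F) 0 := ⟨by ring, by ring⟩

theorem sq2U_zero_one : sq2U (0 : F) 1 := ⟨by ring, by ring⟩

/-- The carrier of the quaternion group, as a predicate on matrices. -/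
def sq2Car (a b : F) (M : Matrix (Fin 1 ⊕ Fin 1) (Fin 1 ⊕ Fin 1) F) : Prop :=
  ∃ x y : F, sq2U x y ∧ (M = sq2Rot x y ∨ M = sq2Ref a b * sq2Rot x y)

theorem sq2Car_one (a b : F) : sq2Car a b 1 := ⟨1, 0, sq2U_one, Or.inl sq2Rot_one⟩

theorem sq2Car_mul (a b : F) (hab : a ^ 2 + b ^ 2 = -1)
    {M N : Matrix (Fin 1 ⊕ Fin 1) (Fin 1 ⊕ Fin 1) F} (hM : sq2Car a b M) (hN : sq2Car a b N) :
    sq2Car a b (M * N) := by
  obtain ⟨x, y, hU, hM | hM⟩ := hM <;> obtain ⟨x', y', hU', hN | hN⟩ := hN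
  · exact ⟨_, _, sq2U_mul hU hU', Or.inl (by rw [hM, hN, sq2Rot_mul])⟩
  · exact ⟨_, _, sq2U_mul (sq2U_neg hU) hU',
      Or.inr (by rw [hM, hN, sq2Rot_ref_assoc, sq2Rot_mul])⟩
  · exact ⟨_, _, sq2U_mul hU hU', Or.inr (by rw [hM, hN, mul_assoc, sq2Rot_mul])⟩
  · exact ⟨_, _, sq2U_mul sq2U_neg_one (sq2U_mul (sq2U_neg hU) hU'),
      Or.inl (by rw [hM, hN, mul_assoc, sq2Rot_ref_assoc, sq2Ref_sq_assoc a b hab, sq2Rot_mul,
        sq2Rot_mul])⟩

theorem sq2Car_sq (a b : F) (hab : a ^ 2 + b ^ 2 = -1)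
    {M : Matrix (Fin 1 ⊕ Fin 1) (Fin 1 ⊕ Fin 1) F} (hM : sq2Car a b M) :
    M * M * (M * M) = 1 := by
  have key : ∃ p : F, p * p = 1 ∧ M * M = sq2Rot p 0 := by
    obtain ⟨x, y, ⟨h1, h2⟩, hM | hM⟩ := hM
    · refine ⟨x * x - y * y, ?_, ?_⟩
      · linear_combination (x ^ 2 + y ^ 2 + 1) * h1 - 4 * x * y * h2
      · rw [hM, sq2Rot_mul]
        apply sq2Rot_congr rfl
        linear_combination 2 * h2
    · refine ⟨-1, by ring, ?_⟩
      rw [hM, mul_assoc, sq2Rot_ref_assoc, sq2Ref_sq_assoc a b hab, sq2Rot_mul, sq2Rot_mul]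
      apply sq2Rot_congr
      · linear_combination (-1 : F) * h1
      · ring
  obtain ⟨p, hp, hMM⟩ := key
  rw [hMM, sq2Rot_mul, sq2Rot_one]
  apply sq2Rot_congr
  · linear_combination hp
  · ring

end mats

section grp

variable {F : Type*} [Field F]

theorem sq2_pow_four (a b : F) (hab : a ^ 2 + b ^ 2 = -1)
    (g : ↥(Matrix.symplecticGroup (Fin 1) F)) (hg : sq2Car a b g.1) : g ^ 4 = 1 := by
  apply Subtype.ext
  have h := sq2Car_sq a b hab hg
  have h4 : g ^ 4 = g * g * (g * g) := by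
    rw [show (4 : ℕ) = 2 + 2 from rfl, pow_add, pow_two]
  rw [h4]
  exact h

/-- The quaternion subgroup. -/
def sq2Quat (a b : F) (hab : a ^ 2 + b ^ 2 = -1) :
    Subgroup ↥(Matrix.symplecticGroup (Fin 1) F) where
  carrier := {g | sq2Car a b g.1}
  one_mem' := sq2Car_one a b
  mul_mem' := fun {g h} hg hh => sq2Car_mul a b hab hg hh
  inv_mem' := fun {g} hg => by
    have h4 := sq2_pow_four a b hab g hg
    have hinv : g⁻¹ = g * g * g := by
      apply inv_eq_of_mul_eq_one_right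
      have h5 : g * (g * g * g) = g ^ 4 := by
        simp only [pow_succ, pow_zero, one_mul, mul_assoc]
      rw [h5, h4]
    have : sq2Car a b (g * g * g).1 := sq2Car_mul a b hab (sq2Car_mul a b hab hg hg) hg
    show sq2Car a b (g⁻¹).1
    rw [hinv]
    exact this

theorem sq2Quat_isPGroup (a b : F) (hab : a ^ 2 + b ^ 2 = -1) :
    IsPGroup 2 ↥(sq2Quat a b hab) := by
  intro g
  refine ⟨2, ?_⟩
  apply Subtype.ext
  have h4 := sq2_pow_four a b hab g.1 g.2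
  simpa using h4

theorem sq2Quat_derived_ne_bot (a b : F) (hab : a ^ 2 + b ^ 2 = -1) (h2 : (2 : F) ≠ 0) :
    derivedSeries ↥(sq2Quat a b hab) 1 ≠ ⊥ := by
  intro hbot
  have hRdet : a * (-a) - b * b = 1 := by linear_combination (-1 : F) * hab
  have hJdet : (0 : F) * 0 - (-1) * 1 = 1 := by ring
  let r0 : ↥(Matrix.symplecticGroup (Fin 1) F) := ⟨sq2Ref a b, sq2Mat_mem a b b (-a) hRdet⟩
  let j0 : ↥(Matrix.symplecticGroup (Fin 1) F) := ⟨sq2Rot 0 1, sq2Mat_mem 0 (-1) 1 0 hJdet⟩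
  have hr : r0 ∈ sq2Quat a b hab :=
    ⟨1, 0, sq2U_one, Or.inr (by show sq2Ref a b = _; rw [← sq2Rot_one, mul_one])⟩
  have hj : j0 ∈ sq2Quat a b hab := ⟨0, 1, sq2U_zero_one, Or.inl rfl⟩
  let r : ↥(sq2Quat a b hab) := ⟨r0, hr⟩
  let j : ↥(sq2Quat a b hab) := ⟨j0, hj⟩
  have hc : ⁅r, j⁆ ∈ derivedSeries ↥(sq2Quat a b hab) 1 := by
    rw [derivedSeries_succ, derivedSeries_zero]
    exact Subgroup.commutator_mem_commutator (Subgroup.mem_top r) (Subgroup.mem_top j)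
  rw [hbot, Subgroup.mem_bot, commutatorElement_eq_one_iff_mul_comm] at hc
  have hc1 : r0 * j0 = j0 * r0 := congrArg Subtype.val hc
  have hc2 : sq2Ref a b * sq2Rot 0 1 = sq2Rot 0 1 * sq2Ref a b := congrArg Subtype.val hc1
  rw [sq2Rot_ref] at hc2
  simp only [sq2Rot, sq2Ref, sq2Mat_mul] at hc2
  obtain ⟨e1, e2, -, -⟩ := sq2Mat_inj hc2
  have hb : b = 0 := by
    have : (2 : F) * b = 0 := by linear_combination e1
    rcases mul_eq_zero.mp this with h | h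
    · exact absurd h h2
    · exact h
  have ha : a = 0 := by
    have : (2 : F) * a = 0 := by linear_combination (-1 : F) * e2
    rcases mul_eq_zero.mp this with h | h
    · exact absurd h h2
    · exact h
  rw [ha, hb] at hab
  have : (1 : F) = 0 := by linear_combination hab
  exact one_ne_zero this

end grp

/-- A finite field of odd order has a nonabelian 2-subgroup inside `Sp_2(F)`. -/
theorem sp2_two_subgroup_nonabelian (F : Type*) [Field F] [Fintype F]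
    (hF : Odd (Fintype.card F)) :
    ∃ Q : Subgroup ↥(Matrix.symplecticGroup (Fin 1) F),
      IsPGroup 2 ↥Q ∧ derivedSeries ↥Q 1 ≠ ⊥ := by
  have hchar : ringChar F ≠ 2 := by
    intro h
    rw [FiniteField.even_card_iff_char_two] at h
    rcases hF with ⟨k, hk⟩
    omega
  have h2 : (2 : F) ≠ 0 := Ring.two_ne_zero hchar
  have : NeZero (ringChar F) := ⟨CharP.char_ne_zero_of_finite F (ringChar F)⟩
  obtain ⟨a, b, hab⟩ := CharP.sq_add_sq F (ringChar F) (-1)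
  have hab' : (a : F) ^ 2 + (b : F) ^ 2 = -1 := by simpa using hab
  exact ⟨sq2Quat (a : F) (b : F) hab', sq2Quat_isPGroup _ _ hab',
    sq2Quat_derived_ne_bot _ _ hab' h2⟩

end Cfsg.Agent.Lib.Helper23
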