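import Mathlib

set_option autoImplicit false

/-!
A faithful linear representation of `D` on `V` gives a faithful linear representation of the
regular wreath product `D ≀ᵣ Q` on `Q → V`; iterating, `IteratedWreathProduct G (k + 1)` has a
faithful representation of dimension `dim V₀ * |G| ^ k`.
-/

namespace Cfsg.Agent.Lib.Helper23

universe u

section wreath

variable {F : Type u} [Field F] {D Q V : Type u} [Group D] [Group Q]
  [AddCommGroup V] [Module F V]

/-- The linear map attached to an element of the wreath product. -/
def wrRepFun (ρ : D →* Module.End F V) (w : D ≀ᵣ Q) : Module.End F (Q → V) :=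
  LinearMap.pi (fun x => (ρ (w.left x)).comp (LinearMap.proj (w.right⁻¹ * x)))

theorem wrRepFun_apply (ρ : D →* Module.End F V) (w : D ≀ᵣ Q) (φ : Q → V) (x : Q) :
    wrRepFun ρ w φ x = ρ (w.left x) (φ (w.right⁻¹ * x)) := rfl

/-- The representation of the wreath product on `Q → V`. -/
def wrRepHom (ρ : D →* Module.End F V) : (D ≀ᵣ Q) →* Module.End F (Q → V) where
  toFun := wrRepFun ρ
  map_one' := by
    apply LinearMap.ext
    intro φ
    funext x
    simp [wrRepFun_apply]
  map_mul' a b := by
    apply LinearMap.ext
    intro φ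
    funext x
    simp [wrRepFun_apply, mul_assoc]

theorem wrRepHom_apply (ρ : D →* Module.End F V) (w : D ≀ᵣ Q) (φ : Q → V) (x : Q) :
    wrRepHom ρ w φ x = ρ (w.left x) (φ (w.right⁻¹ * x)) := rfl

theorem wrRep_ne_zero (ρ : D →* Module.End F V) (d : D) (v : V) (hv : v ≠ 0) : ρ d v ≠ 0 := by
  intro h
  apply hv
  have h1 : ρ d⁻¹ (ρ d v) = v := by
    have : ρ d⁻¹ * ρ d = 1 := by rw [← map_mul, inv_mul_cancel, map_one]
    have h2 := congrArg (fun T : Module.End F V => T v) this
    simpa using h2
  rw [h, map_zero] at h1
  exact h1.symm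

theorem wrRepHom_injective [Nontrivial V] (ρ : D →* Module.End F V)
    (hρ : Function.Injective ρ) : Function.Injective (wrRepHom (Q := Q) ρ) := by
  classical
  intro a b hab
  obtain ⟨v, hv⟩ := exists_ne (0 : V)
  have hright : a.right = b.right := by
    have h1 := congrArg (fun T : Module.End F (Q → V) => T (Pi.single 1 v) a.right) hab
    simp only [wrRepHom_apply] at h1
    rw [inv_mul_cancel, Pi.single_eq_same] at h1
    by_contra hne
    have h2 : b.right⁻¹ * a.right ≠ 1 := by
      intro h3
      apply hne
      have : a.right = b.right * (b.right⁻¹ * a.right) := by group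
      rw [this, h3, mul_one]
    rw [Pi.single_eq_of_ne h2, map_zero] at h1
    exact wrRep_ne_zero ρ _ v hv h1
  have hleft : a.left = b.left := by
    funext x
    apply hρ
    apply LinearMap.ext
    intro w
    have h1 := congrArg (fun T : Module.End F (Q → V) => T (fun _ => w) x) hab
    simpa only [wrRepHom_apply] using h1
  exact RegularWreathProduct.ext hleft hright

end wreath

/-- L1: a faithful representation of `D` induces a faithful representation of `D ≀ᵣ Q`. -/
theorem wreath_rep {F : Type u} [Field F] {D Q V : Type u} [Group D] [Group Q] [Finite Q]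
    [AddCommGroup V] [Module F V] [Nontrivial V] (ρ : D →* Module.End F V)
    (hρ : Function.Injective ρ) :
    ∃ ρ' : (D ≀ᵣ Q) →* Module.End F (Q → V), Function.Injective ρ' :=
  ⟨wrRepHom ρ, wrRepHom_injective ρ hρ⟩

/-- Auxiliary form of L2 carrying nontriviality along the induction. -/
theorem iwp_rep_aux {F : Type u} [Field F] {G : Type u} [Group G] [Finite G] {V₀ : Type u}
    [AddCommGroup V₀] [Module F V₀] [Module.Finite F V₀] [Nontrivial V₀]
    (ρ₀ : G →* Module.End F V₀) (h₀ : Function.Injective ρ₀) (k : ℕ) :
    ∃ (V : Type u) (_ : AddCommGroup V) (_ : Module F V) (_ : Module.Finite F V)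
      (_ : Nontrivial V) (ρ : IteratedWreathProduct G (k + 1) →* Module.End F V),
      Function.Injective ρ ∧ Module.finrank F V = Module.finrank F V₀ * Nat.card G ^ k := by
  induction k with
  | zero =>
    refine ⟨V₀, inferInstance, inferInstance, inferInstance, inferInstance,
      ρ₀.comp (RegularWreathProduct.rightHom : IteratedWreathProduct G 0 ≀ᵣ G →* G), ?_, by simp⟩
    intro a b hab
    have hr : a.right = b.right := h₀ hab
    have hl : a.left = b.left := by
      funext x
      exact Subsingleton.elim (α := PUnit) _ _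
    exact RegularWreathProduct.ext hl hr
  | succ k ih =>
    obtain ⟨V, iA, iM, iF, iN, ρ, hρ, hfr⟩ := ih
    haveI : Fintype G := Fintype.ofFinite G
    refine ⟨G → V, inferInstance, inferInstance, inferInstance, inferInstance,
      wrRepHom (D := IteratedWreathProduct G (k + 1)) (Q := G) ρ,
      wrRepHom_injective ρ hρ, ?_⟩
    rw [Module.finrank_pi_fintype, Finset.sum_const, Finset.card_univ, smul_eq_mul, hfr,
      Nat.card_eq_fintype_card]
    ring

/-- L2: `IteratedWreathProduct G (k + 1)` has a faithful representation of dimension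
`dim V₀ * |G| ^ k`. -/
theorem iwp_rep {F : Type u} [Field F] {G : Type u} [Group G] [Finite G] {V₀ : Type u}
    [AddCommGroup V₀] [Module F V₀] [Module.Finite F V₀] [Nontrivial V₀]
    (ρ₀ : G →* Module.End F V₀) (h₀ : Function.Injective ρ₀) (k : ℕ) :
    ∃ (V : Type u) (_ : AddCommGroup V) (_ : Module F V) (_ : Module.Finite F V)
      (ρ : IteratedWreathProduct G (k + 1) →* Module.End F V),
      Function.Injective ρ ∧ Module.finrank F V = Module.finrank F V₀ * Nat.card G ^ k := by
  obtain ⟨V, iA, iM, iF, _, ρ, hρ, hfr⟩ := iwp_rep_aux ρ₀ h₀ k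
  exact ⟨V, iA, iM, iF, ρ, hρ, hfr⟩

end Cfsg.Agent.Lib.Helper23
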